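/-
Schur multipliers described through stem extensions (`Cfsg.HasSchurMultiplier`).

For a homomorphism `f : F →* G` out of a free group, `Pre f = F ⧸ ⁅ker f, F⁆` is the free central
extension of `G`, and `mult f = ker (Pre f → G) ⊓ commutator (Pre f)` is the Schur multiplier.
`Mult G` is this group for the standard presentation `FreeGroup G → G`.

Main results:
* `map_mult`, `exists_surjective_mult`, `exists_surjective_of_stem`: universality, in every universe;
* `finite_commutator_of_central` (Schur), `finite_mult`;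
* `exists_complement`, `isStemExtension_cover`: Schur covers;
* `hasSchurMultiplier_mult`, `hasSchurMultiplier_iff`, `hasSchurMultiplier_congr`;
* `hasSchurMultiplier_of_card_le`, `hasCyclicSchurMultiplier_one_iff`.
-/
import Cfsg.Prelude.Def_KGroupFacts
import Mathlib

set_option autoImplicit false
set_option linter.all false

open Cfsg Subgroup
open scoped commutatorElement IsMulCommutative

universe u v w

namespace Cfsg.Agent.Schur

/-! ### Central extensions -/

section Central

variable {F : Type v} {G : Type u} {Γ : Type w} [Group F] [Group G] [Group Γ]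

theorem commutatorElement_mul_central {z₁ z₂ : Γ} (h₁ : z₁ ∈ center Γ) (h₂ : z₂ ∈ center Γ)
    (a b : Γ) : ⁅a * z₁, b * z₂⁆ = ⁅a, b⁆ := by
  have c₁ := Subgroup.mem_center_iff.1 h₁
  have c₂ := Subgroup.mem_center_iff.1 h₂
  have d₁ : ∀ x : Γ, Commute z₁ x := fun x => (c₁ x).symm
  have d₂ : ∀ x : Γ, Commute z₂ x := fun x => (c₂ x).symm
  simp only [commutatorElement_def, mul_inv_rev]
  calc a * z₁ * (b * z₂) * (z₁⁻¹ * a⁻¹) * (z₂⁻¹ * b⁻¹)
      = a * (z₁ * b) * (z₂ * z₁⁻¹) * a⁻¹ * z₂⁻¹ * b⁻¹ := by group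
    _ = a * (b * z₁) * (z₁⁻¹ * z₂) * a⁻¹ * z₂⁻¹ * b⁻¹ := by
        rw [(d₁ b).eq, (d₁ z₂).inv_left.eq]
    _ = a * b * (z₂ * a⁻¹) * z₂⁻¹ * b⁻¹ := by group
    _ = a * b * (a⁻¹ * z₂) * z₂⁻¹ * b⁻¹ := by rw [(d₂ a⁻¹).eq]
    _ = a * b * a⁻¹ * b⁻¹ := by group

/-- If `σ : Γ → G` has central kernel and `σ ∘ ψ` is onto, then `Γ'` is the image of `F'`. -/
theorem commutator_eq_map (σ : Γ →* G) (hc : σ.ker ≤ center Γ) (ψ : F →* Γ)
    (hψ : Function.Surjective (σ.comp ψ)) : commutator Γ = (commutator F).map ψ := by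
  apply le_antisymm
  · rw [commutator_def Γ, commutator_le]
    intro x _ y _
    obtain ⟨k, hk⟩ := hψ (σ x)
    obtain ⟨l, hl⟩ := hψ (σ y)
    rw [MonoidHom.comp_apply] at hk hl
    have hx : (ψ k)⁻¹ * x ∈ center Γ := hc (by simp [MonoidHom.mem_ker, hk])
    have hy : (ψ l)⁻¹ * y ∈ center Γ := hc (by simp [MonoidHom.mem_ker, hl])
    have h := commutatorElement_mul_central hx hy (ψ k) (ψ l)
    rw [mul_inv_cancel_left, mul_inv_cancel_left, ← map_commutatorElement] at h
    rw [h]
    exact mem_map_of_mem _ (commutator_mem_commutator (mem_top _) (mem_top _))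
  · rw [commutator_def F, map_commutator, commutator_def]
    exact commutator_mono le_top le_top

/-- Schur: a central extension of a finite group has finite commutator subgroup. -/
theorem finite_commutator_of_central [Finite G] (σ : Γ →* G) (hσ : Function.Surjective σ)
    (hc : σ.ker ≤ center Γ) : Finite (commutator Γ) := by
  have key : ∀ x : Γ, (Function.surjInv hσ (σ x))⁻¹ * x ∈ center Γ := fun x =>
    hc (by simp [MonoidHom.mem_ker, Function.surjInv_eq hσ (σ x)])
  have hsub : commutatorSet Γ ⊆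
      Set.range fun p : G × G => ⁅Function.surjInv hσ p.1, Function.surjInv hσ p.2⁆ := by
    rintro _ ⟨x, y, rfl⟩
    refine ⟨(σ x, σ y), ?_⟩
    have h := commutatorElement_mul_central (key x) (key y) (Function.surjInv hσ (σ x))
      (Function.surjInv hσ (σ y))
    rw [mul_inv_cancel_left, mul_inv_cancel_left] at h
    exact h.symm
  have : Finite (commutatorSet Γ) := ((Set.finite_range _).subset hsub).to_subtype
  infer_instance

theorem finite_of_finite_ker [Finite G] (σ : Γ →* G) [Finite σ.ker] : Finite Γ := by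
  have : Finite (Γ ⧸ σ.ker) :=
    Finite.of_injective _ (QuotientGroup.kerLift_injective σ)
  exact Finite.of_subgroup_quotient σ.ker

theorem exists_lift [IsFreeGroup F] (f : F →* G) (σ : Γ →* G) (hσ : Function.Surjective σ) :
    ∃ ψ : F →* Γ, σ.comp ψ = f := by
  refine ⟨IsFreeGroup.lift fun i => Function.surjInv hσ (f (IsFreeGroup.of i)), ?_⟩
  apply IsFreeGroup.ext_hom
  intro i
  simp [Function.surjInv_eq hσ]

end Central

/-! ### The free central extension -/

section FreePres

variable {F : Type v} {G : Type u} [Group F] [Group G] (f : F →* G)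

/-- `⁅ker f, F⁆`. -/
abbrev rel : Subgroup F := ⁅f.ker, (⊤ : Subgroup F)⁆

/-- `F ⧸ ⁅ker f, F⁆`. -/
abbrev Pre : Type v := F ⧸ rel f

theorem rel_le : rel f ≤ f.ker := commutator_le_left _ _

/-- The central extension `Pre f → G`. -/
def preHom : Pre f →* G := QuotientGroup.lift (rel f) f (rel_le f)

@[simp] theorem preHom_mk (x : F) : preHom f (QuotientGroup.mk x) = f x := rfl

theorem preHom_surjective (hf : Function.Surjective f) : Function.Surjective (preHom f) := fun g => by
  obtain ⟨x, rfl⟩ := hf g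
  exact ⟨QuotientGroup.mk x, rfl⟩

theorem preHom_ker_le_center : (preHom f).ker ≤ center (Pre f) := by
  intro x hx
  obtain ⟨a, rfl⟩ := QuotientGroup.mk_surjective x
  rw [Subgroup.mem_center_iff]
  intro y
  obtain ⟨b, rfl⟩ := QuotientGroup.mk_surjective y
  have h : ⁅a, b⁆ ∈ rel f := commutator_mem_commutator hx (mem_top b)
  rw [← QuotientGroup.eq_one_iff, commutatorElement_def, QuotientGroup.mk_mul, QuotientGroup.mk_mul,
    QuotientGroup.mk_mul, QuotientGroup.mk_inv, QuotientGroup.mk_inv, ← commutatorElement_def,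
    commutatorElement_eq_one_iff_mul_comm] at h
  exact h.symm

/-- The Schur multiplier, read off from a free presentation. -/
def mult : Subgroup (Pre f) := (preHom f).ker ⊓ commutator (Pre f)

theorem mult_le_ker : mult f ≤ (preHom f).ker := inf_le_left

theorem mult_le_commutator : mult f ≤ commutator (Pre f) := inf_le_right

theorem mult_le_center : mult f ≤ center (Pre f) := (mult_le_ker f).trans (preHom_ker_le_center f)

instance mult_isMulCommutative : IsMulCommutative (mult f) :=
  ⟨⟨fun a b => Subtype.ext ((Subgroup.mem_center_iff.1 (mult_le_center f b.2) a.1))⟩⟩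

theorem finite_mult [Finite G] (hf : Function.Surjective f) : Finite (mult f) := by
  have := finite_commutator_of_central (preHom f) (preHom_surjective f hf) (preHom_ker_le_center f)
  exact Finite.of_injective (Subgroup.inclusion (mult_le_commutator f))
    (Subgroup.inclusion_injective _)

variable {Γ : Type w} [Group Γ]

theorem exists_preLift [IsFreeGroup F] (σ : Γ →* G) (hσ : Function.Surjective σ)
    (hc : σ.ker ≤ center Γ) : ∃ ψ : Pre f →* Γ, σ.comp ψ = preHom f := by
  obtain ⟨ψ, hψ⟩ := exists_lift f σ hσ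
  have h : rel f ≤ ψ.ker := by
    rw [commutator_le]
    intro a ha b _
    have : ψ a ∈ center Γ := hc (by
      rw [MonoidHom.mem_ker] at ha ⊢
      rwa [← MonoidHom.comp_apply, hψ])
    rw [MonoidHom.mem_ker, map_commutatorElement, commutatorElement_eq_one_iff_mul_comm]
    exact (Subgroup.mem_center_iff.1 this _).symm
  refine ⟨QuotientGroup.lift (rel f) ψ h, ?_⟩
  apply MonoidHom.ext
  intro x
  obtain ⟨a, rfl⟩ := QuotientGroup.mk_surjective x
  simpa using DFunLike.congr_fun hψ a

theorem map_mult (hf : Function.Surjective f) (σ : Γ →* G) (hc : σ.ker ≤ center Γ)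
    (ψ : Pre f →* Γ) (hψ : σ.comp ψ = preHom f) :
    (mult f).map ψ = σ.ker ⊓ commutator Γ := by
  have hc' := commutator_eq_map σ hc ψ (by rw [hψ]; exact preHom_surjective f hf)
  apply le_antisymm
  · rintro _ ⟨x, hx, rfl⟩
    refine Subgroup.mem_inf.2 ⟨?_, by rw [hc']; exact mem_map_of_mem _ hx.2⟩
    rw [MonoidHom.mem_ker, ← MonoidHom.comp_apply, hψ]
    exact hx.1
  · intro y hy
    obtain ⟨h1, h2⟩ := Subgroup.mem_inf.1 hy
    rw [hc'] at h2
    obtain ⟨x, hx, rfl⟩ := h2
    refine ⟨x, Subgroup.mem_inf.2 ⟨?_, hx⟩, rfl⟩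
    rw [MonoidHom.mem_ker, ← MonoidHom.comp_apply, hψ] at h1
    exact h1

theorem exists_surjective_mult_of_pres [IsFreeGroup F] (hf : Function.Surjective f) (σ : Γ →* G)
    (hσ : Function.Surjective σ) (hc : σ.ker ≤ center Γ) :
    ∃ π : mult f →* ↥(σ.ker ⊓ commutator Γ), Function.Surjective π := by
  obtain ⟨ψ, hψ⟩ := exists_preLift f σ hσ hc
  have h := map_mult f hf σ hc ψ hψ
  exact ⟨((MulEquiv.subgroupCongr h).toMonoidHom).comp (ψ.subgroupMap (mult f)),
    (MulEquiv.subgroupCongr h).surjective.comp (ψ.subgroupMap_surjective (mult f))⟩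

end FreePres

/-! ### Complements of the multiplier -/

section Complement

variable {ι : Type v} [Finite ι] {G : Type u} [Group G] (f : FreeGroup ι →* G)

/-- The exponent sum map. -/
noncomputable def expSum (ι : Type v) : FreeGroup ι →* Multiplicative (ι → ℤ) :=
  haveI := Classical.decEq ι
  FreeGroup.lift fun i => Multiplicative.ofAdd (Pi.single i 1)

theorem ker_expSum : (expSum ι).ker = commutator (FreeGroup ι) := by
  classical
  cases nonempty_fintype ι
  refine le_antisymm ?_ (Abelianization.commutator_subset_ker _)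
  let g : Multiplicative (ι → ℤ) →* Abelianization (FreeGroup ι) :=
    { toFun := fun x => ∏ i, Abelianization.of (FreeGroup.of i) ^ Multiplicative.toAdd x i
      map_one' := by simp
      map_mul' := fun x y => by simp [zpow_add, Finset.prod_mul_distrib] }
  have hg : g.comp (expSum ι) = Abelianization.of := by
    apply FreeGroup.ext_hom
    intro i
    simp only [MonoidHom.comp_apply, expSum, FreeGroup.lift_apply_of]
    show ∏ j, Abelianization.of (FreeGroup.of j) ^ (Pi.single i (1 : ℤ) : ι → ℤ) j = _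
    rw [Finset.prod_eq_single i]
    · simp
    · intro j _ hj; simp [Pi.single_eq_of_ne hj]
    · simp
  intro x hx
  rw [← Abelianization.ker_of, MonoidHom.mem_ker, ← hg, MonoidHom.comp_apply, hx, map_one]

theorem exists_expSum :
    ∃ e : Pre f →* Multiplicative (ι → ℤ), (∀ x, e (QuotientGroup.mk x) = expSum ι x) ∧
      e.ker = commutator (Pre f) := by
  have h : rel f ≤ (expSum ι).ker := by
    rw [ker_expSum, commutator_def]
    exact commutator_mono le_top le_rfl
  refine ⟨QuotientGroup.lift (rel f) (expSum ι) h, fun x => rfl,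
    le_antisymm ?_ (Abelianization.commutator_subset_ker _)⟩
  intro x hx
  obtain ⟨a, rfl⟩ := QuotientGroup.mk_surjective x
  have ha : a ∈ commutator (FreeGroup ι) := by
    rw [← ker_expSum]; exact hx
  have h2 : (commutator (FreeGroup ι)).map (QuotientGroup.mk' (rel f)) ≤ commutator (Pre f) := by
    rw [commutator_def, map_commutator, commutator_def]
    exact commutator_mono le_top le_top
  exact h2 (mem_map_of_mem _ ha)

/-- A central subgroup `D` of `ker (Pre f → G)` with `D ⊔ mult f` the whole kernel contains a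
complement of `mult f`. -/
theorem exists_complement (D : Subgroup (Pre f)) (hD : D ≤ (preHom f).ker)
    (hD2 : (preHom f).ker ≤ D ⊔ mult f) :
    ∃ C : Subgroup (Pre f), C ≤ D ∧ C ⊓ commutator (Pre f) = ⊥ ∧ C ⊔ mult f = (preHom f).ker := by
  obtain ⟨e, -, he⟩ := exists_expSum f
  haveI : IsMulCommutative D :=
    ⟨⟨fun a b => Subtype.ext ((Subgroup.mem_center_iff.1 (preHom_ker_le_center f (hD b.2)) a.1))⟩⟩
  let r : Additive D →ₗ[ℤ] (ι → ℤ) :=
    (MonoidHom.toAdditiveLeft (e.comp D.subtype)).toIntLinearMap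
  obtain ⟨s, hs⟩ := LinearMap.exists_rightInverse_of_surjective r.rangeRestrict r.range_rangeRestrict
  have hs' : ∀ y, r.rangeRestrict (s y) = y := fun y => LinearMap.congr_fun hs y
  let q : Multiplicative (LinearMap.range r) →* Pre f :=
    D.subtype.comp (AddMonoidHom.toMultiplicativeLeft s.toAddMonoidHom)
  have hq : ∀ y, e (q y) = Multiplicative.ofAdd ((Multiplicative.toAdd y : LinearMap.range r) : ι → ℤ) := by
    intro y
    have := congrArg Subtype.val (hs' (Multiplicative.toAdd y))
    exact congrArg Multiplicative.ofAdd this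
  have hqD : q.range ≤ D := by
    rintro _ ⟨y, rfl⟩
    exact (Additive.toMul (s (Multiplicative.toAdd y)) : D).2
  refine ⟨q.range, hqD, ?_, le_antisymm (sup_le (hqD.trans hD) (mult_le_ker f)) ?_⟩
  · rw [eq_bot_iff]
    rintro _ ⟨⟨y, rfl⟩, h2⟩
    have h3 : e (q y) = 1 := by
      rw [← MonoidHom.mem_ker, he]; exact h2
    rw [hq] at h3
    have h4 : y = 1 := by
      have h5 : ((Multiplicative.toAdd y : LinearMap.range r) : ι → ℤ) = 0 := h3
      exact Multiplicative.toAdd.injective (Subtype.ext h5)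
    simp [h4]
  · intro x hx
    obtain ⟨d, hd, m, hm, rfl⟩ : ∃ d ∈ D, ∃ m ∈ mult f, d * m = x := by
      have hn : (mult f).Normal := ⟨fun n hn g => by
        rw [(Subgroup.mem_center_iff.1 (mult_le_center f hn)) g, mul_inv_cancel_right]; exact hn⟩
      exact mem_sup_of_normal_right.1 (hD2 hx)
    let y : Multiplicative (LinearMap.range r) :=
      Multiplicative.ofAdd (r.rangeRestrict (Additive.ofMul ⟨d, hd⟩))
    have hy : e (q y) = e d := hq y
    have h1 : (q y)⁻¹ * d ∈ mult f :=
      Subgroup.mem_inf.2 ⟨mul_mem (inv_mem (hD (hqD ⟨y, rfl⟩))) (hD hd),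
        by rw [← he]; simp [MonoidHom.mem_ker, hy]⟩
    rw [show d * m = q y * ((q y)⁻¹ * d * m) by group]
    exact mul_mem_sup ⟨y, rfl⟩ (mul_mem h1 hm)

theorem normal_of_le_center {C : Subgroup (Pre f)} (h : C ≤ (preHom f).ker) : C.Normal :=
  ⟨fun n hn g => by
    rw [(Subgroup.mem_center_iff.1 (preHom_ker_le_center f (h hn))) g, mul_inv_cancel_right]
    exact hn⟩

/-- The cover belonging to a complement `C`. -/
theorem isStemExtension_cover [Finite G] (hf : Function.Surjective f) (C : Subgroup (Pre f))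
    [C.Normal] (hC : C ≤ (preHom f).ker) (hinf : C ⊓ commutator (Pre f) = ⊥)
    (hsup : C ⊔ mult f = (preHom f).ker) :
    IsStemExtension (QuotientGroup.lift C (preHom f) hC) ∧ Finite (Pre f ⧸ C) ∧
      Nonempty ((QuotientGroup.lift C (preHom f) hC).ker ≃* mult f) := by
  set σ := QuotientGroup.lift C (preHom f) hC
  have hsurj : Function.Surjective σ := fun g => by
    obtain ⟨x, rfl⟩ := preHom_surjective f hf g
    exact ⟨QuotientGroup.mk x, rfl⟩
  have hker : σ.ker = (mult f).map (QuotientGroup.mk' C) := by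
    rw [QuotientGroup.ker_lift, ← hsup, Subgroup.map_sup, QuotientGroup.map_mk'_self, bot_sup_eq]
  have hcent : σ.ker ≤ center (Pre f ⧸ C) := by
    rw [hker]
    rintro _ ⟨x, hx, rfl⟩
    rw [Subgroup.mem_center_iff]
    intro y
    obtain ⟨a, rfl⟩ := QuotientGroup.mk_surjective y
    exact congrArg (QuotientGroup.mk' C) (Subgroup.mem_center_iff.1 (mult_le_center f hx) a)
  have hstem : IsStemExtension σ := by
    refine ⟨hsurj, hcent, ?_⟩
    rw [hker, _root_.commutator_def]
    refine (map_mono (mult_le_commutator f)).trans ?_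
    rw [_root_.commutator_def, map_commutator]
    exact commutator_mono le_top le_top
  have hbij : Function.Bijective ((QuotientGroup.mk' C).subgroupMap (mult f)) := by
    refine ⟨?_, (QuotientGroup.mk' C).subgroupMap_surjective (mult f)⟩
    rw [injective_iff_map_eq_one]
    intro x hx
    have h1 : (x : Pre f) ∈ C := by
      rw [← QuotientGroup.eq_one_iff]; exact congrArg Subtype.val hx
    have h2 : (x : Pre f) ∈ (⊥ : Subgroup (Pre f)) := hinf ▸ ⟨h1, x.2.2⟩
    exact Subtype.ext (Subgroup.mem_bot.1 h2)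
  let e := (MulEquiv.ofBijective _ hbij).trans (MulEquiv.subgroupCongr hker).symm
  have := finite_mult f hf
  have : Finite σ.ker := Finite.of_equiv _ e.toEquiv
  exact ⟨hstem, finite_of_finite_ker σ, ⟨e.symm⟩⟩

end Complement

/-! ### The Schur multiplier of a group -/

section Mult

variable {G : Type u} [Group G]

/-- The standard presentation. -/
abbrev stdPres (G : Type u) [Group G] : FreeGroup G →* G := FreeGroup.lift id

theorem stdPres_surjective : Function.Surjective (stdPres G) :=
  fun g => ⟨FreeGroup.of g, by simp⟩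

/-- The Schur multiplier of `G`. -/
abbrev Mult (G : Type u) [Group G] : Type u := ↥(mult (stdPres G))

instance finite_Mult [Finite G] : Finite (Mult G) := finite_mult _ stdPres_surjective

theorem exists_surjective_mult {Γ : Type w} [Group Γ] (σ : Γ →* G) (hσ : Function.Surjective σ)
    (hc : σ.ker ≤ center Γ) :
    ∃ π : Mult G →* ↥(σ.ker ⊓ commutator Γ), Function.Surjective π :=
  exists_surjective_mult_of_pres _ stdPres_surjective σ hσ hc

theorem exists_surjective_of_stem {Γ : Type w} [Group Γ] (σ : Γ →* G) (hσ : IsStemExtension σ) :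
    ∃ π : Mult G →* σ.ker, Function.Surjective π := by
  obtain ⟨π, hπ⟩ := exists_surjective_mult σ hσ.1 hσ.2.1
  have h : σ.ker ⊓ commutator Γ = σ.ker := inf_eq_left.2 hσ.2.2
  exact ⟨(MulEquiv.subgroupCongr h).toMonoidHom.comp π, (MulEquiv.subgroupCongr h).surjective.comp hπ⟩

theorem card_ker_le [Finite G] {Γ : Type w} [Group Γ] (σ : Γ →* G) (hσ : IsStemExtension σ) :
    Nat.card σ.ker ≤ Nat.card (Mult G) := by
  obtain ⟨π, hπ⟩ := exists_surjective_of_stem σ hσ
  exact Nat.card_le_card_of_surjective π hπ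

theorem exists_cover (G : Type u) [Group G] [Finite G] :
    ∃ (Γ : Type u) (_ : Group Γ) (_ : Finite Γ) (σ : Γ →* G),
      IsStemExtension σ ∧ Nonempty (σ.ker ≃* Mult G) := by
  obtain ⟨C, hC, hinf, hsup⟩ :=
    exists_complement (stdPres G) (preHom (stdPres G)).ker le_rfl le_sup_left
  haveI := normal_of_le_center _ hC
  obtain ⟨h1, h2, h3⟩ := isStemExtension_cover _ stdPres_surjective C hC hinf hsup
  exact ⟨_, inferInstance, h2, _, h1, h3⟩

theorem hasSchurMultiplier_mult [Finite G] : HasSchurMultiplier G (Mult G) :=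
  ⟨exists_cover G, fun _ _ _ σ hσ => exists_surjective_of_stem σ hσ⟩

theorem bijective_of_surjective_of_card_le {α : Type v} {β : Type w} [Finite α] (π : α → β)
    (hπ : Function.Surjective π) (h : Nat.card α ≤ Nat.card β) : Function.Bijective π :=
  (Nat.bijective_iff_surjective_and_card π).2
    ⟨hπ, le_antisymm h (Nat.card_le_card_of_surjective π hπ)⟩

theorem finite_of_hasSchurMultiplier {A : Type v} [CommGroup A] (h : HasSchurMultiplier G A) :
    Finite G := by
  obtain ⟨⟨Γ, _, _, σ, hσ, -⟩, -⟩ := h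
  exact Finite.of_surjective σ hσ.1

theorem nonempty_mulEquiv_mult {A : Type v} [CommGroup A] (h : HasSchurMultiplier G A) :
    Nonempty (A ≃* Mult G) := by
  haveI := finite_of_hasSchurMultiplier h
  obtain ⟨⟨Γ, _, _, σ, hσ, ⟨e⟩⟩, h2⟩ := h
  obtain ⟨π₁, hπ₁⟩ := exists_surjective_of_stem σ hσ
  have hAfin : Finite A := Finite.of_surjective _ (e.surjective.comp hπ₁)
  obtain ⟨Γ₀, _, _, σ₀, hσ₀, ⟨e₀⟩⟩ := exists_cover G
  obtain ⟨π₂, hπ₂⟩ := h2 Γ₀ σ₀ hσ₀
  let p : A →* Mult G := e₀.toMonoidHom.comp π₂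
  have hle : Nat.card A ≤ Nat.card (Mult G) :=
    Nat.card_le_card_of_surjective (e ∘ π₁) (e.surjective.comp hπ₁)
  exact ⟨MulEquiv.ofBijective p
    (bijective_of_surjective_of_card_le p (e₀.surjective.comp hπ₂) hle)⟩

theorem hasSchurMultiplier_of_mulEquiv [Finite G] {A : Type v} [CommGroup A] (e : A ≃* Mult G) :
    HasSchurMultiplier G A := by
  obtain ⟨Γ, _, _, σ, hσ, ⟨e'⟩⟩ := exists_cover G
  refine ⟨⟨Γ, _, inferInstance, σ, hσ, ⟨e'.trans e.symm⟩⟩, fun Γ' _ _ σ' hσ' => ?_⟩
  obtain ⟨π, hπ⟩ := exists_surjective_of_stem σ' hσ'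
  exact ⟨π.comp e.toMonoidHom, hπ.comp e.surjective⟩

theorem hasSchurMultiplier_iff {A : Type v} [CommGroup A] :
    HasSchurMultiplier G A ↔ Finite G ∧ Nonempty (A ≃* Mult G) :=
  ⟨fun h => ⟨finite_of_hasSchurMultiplier h, nonempty_mulEquiv_mult h⟩,
    fun ⟨_, ⟨e⟩⟩ => hasSchurMultiplier_of_mulEquiv e⟩

theorem finite_multiplier {A : Type v} [CommGroup A] (h : HasSchurMultiplier G A) : Finite A := by
  haveI := finite_of_hasSchurMultiplier h
  obtain ⟨e⟩ := nonempty_mulEquiv_mult h
  exact Finite.of_equiv _ e.symm.toEquiv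

/-- Criterion: a stem extension with kernel `A` and no larger stem extension. -/
theorem hasSchurMultiplier_of_card_le [Finite G] {A : Type v} [CommGroup A] {Γ₁ : Type w}
    [Group Γ₁] (σ₁ : Γ₁ →* G) (h1 : IsStemExtension σ₁) (e : σ₁.ker ≃* A)
    (h : ∀ (Γ : Type u) [Group Γ] [Finite Γ] (σ : Γ →* G), IsStemExtension σ →
      Nat.card σ.ker ≤ Nat.card A) : HasSchurMultiplier G A := by
  obtain ⟨π, hπ⟩ := exists_surjective_of_stem σ₁ h1
  obtain ⟨Γ₀, _, _, σ₀, h0, ⟨e₀⟩⟩ := exists_cover G
  have hle : Nat.card (Mult G) ≤ Nat.card σ₁.ker := by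
    rw [← Nat.card_congr e₀.toEquiv, Nat.card_congr e.toEquiv]
    exact h Γ₀ σ₀ h0
  exact hasSchurMultiplier_of_mulEquiv
    ((MulEquiv.ofBijective π (bijective_of_surjective_of_card_le π hπ hle)).trans e).symm

theorem hasCyclicSchurMultiplier_one_iff :
    HasCyclicSchurMultiplier G 1 ↔ Finite G ∧ Nat.card (Mult G) = 1 := by
  unfold HasCyclicSchurMultiplier; rw [hasSchurMultiplier_iff]
  refine and_congr_right fun _ => ⟨fun ⟨e⟩ => ?_, fun h => ?_⟩
  · rw [← Nat.card_congr e.toEquiv, Nat.card_congr Multiplicative.toAdd, Nat.card_zmod]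
  · haveI := (Nat.card_eq_one_iff_unique.1 h).1
    haveI : Unique (Mult G) := uniqueOfSubsingleton 1
    exact ⟨MulEquiv.ofUnique⟩

theorem ker_inf_commutator_eq_bot (h : HasCyclicSchurMultiplier G 1) {Γ : Type w} [Group Γ]
    (σ : Γ →* G) (hσ : Function.Surjective σ) (hc : σ.ker ≤ center Γ) :
    σ.ker ⊓ commutator Γ = ⊥ := by
  obtain ⟨hfin, hcard⟩ := hasCyclicSchurMultiplier_one_iff.1 h
  obtain ⟨π, hπ⟩ := exists_surjective_mult σ hσ hc
  rw [eq_bot_iff_forall]
  intro x hx
  haveI := (Nat.card_eq_one_iff_unique.1 hcard).1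
  obtain ⟨a, ha⟩ := hπ ⟨x, hx⟩
  rw [Subsingleton.elim a 1, map_one] at ha
  exact (congrArg Subtype.val ha).symm

/-- Trivial multiplier from: every finite stem extension is bijective. -/
theorem hasCyclicSchurMultiplier_one_of_forall [Finite G]
    (h : ∀ (Γ : Type u) [Group Γ] [Finite Γ] (σ : Γ →* G), IsStemExtension σ → σ.ker = ⊥) :
    HasCyclicSchurMultiplier G 1 := by
  rw [hasCyclicSchurMultiplier_one_iff]
  obtain ⟨Γ₀, _, _, σ₀, h0, ⟨e₀⟩⟩ := exists_cover G
  exact ⟨inferInstance, by rw [← Nat.card_congr e₀.toEquiv, h Γ₀ σ₀ h0, Subgroup.card_bot]⟩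

end Mult

/-! ### Invariance under isomorphism -/

section Congr

variable {G : Type u} {H : Type v} [Group G] [Group H]

theorem isStemExtension_comp_mulEquiv {Γ : Type w} [Group Γ] {σ : Γ →* G}
    (hσ : IsStemExtension σ) (e : G ≃* H) :
    IsStemExtension (e.toMonoidHom.comp σ) ∧ (e.toMonoidHom.comp σ).ker = σ.ker := by
  have hk : (e.toMonoidHom.comp σ).ker = σ.ker := by
    ext x; simp [MonoidHom.mem_ker]
  exact ⟨⟨e.surjective.comp hσ.1, hk ▸ hσ.2.1, hk ▸ hσ.2.2⟩, hk⟩

theorem nonempty_mult_congr [Finite G] (e : G ≃* H) : Nonempty (Mult G ≃* Mult H) := by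
  haveI : Finite H := Finite.of_equiv _ e.toEquiv
  obtain ⟨Γ, _, _, σ, hσ, ⟨eσ⟩⟩ := exists_cover G
  obtain ⟨Δ, _, _, τ, hτ, ⟨eτ⟩⟩ := exists_cover H
  obtain ⟨hσ', hkσ⟩ := isStemExtension_comp_mulEquiv hσ e
  obtain ⟨hτ', hkτ⟩ := isStemExtension_comp_mulEquiv hτ e.symm
  obtain ⟨π₁, hπ₁⟩ := exists_surjective_of_stem _ hσ'
  obtain ⟨π₂, hπ₂⟩ := exists_surjective_of_stem _ hτ'
  let p₁ : Mult H →* Mult G :=
    eσ.toMonoidHom.comp ((MulEquiv.subgroupCongr hkσ).toMonoidHom.comp π₁)
  have hp₁ : Function.Surjective p₁ :=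
    eσ.surjective.comp ((MulEquiv.subgroupCongr hkσ).surjective.comp hπ₁)
  have hle : Nat.card (Mult H) ≤ Nat.card (Mult G) :=
    Nat.card_le_card_of_surjective (eτ ∘ (MulEquiv.subgroupCongr hkτ) ∘ π₂)
      (eτ.surjective.comp ((MulEquiv.subgroupCongr hkτ).surjective.comp hπ₂))
  exact ⟨(MulEquiv.ofBijective p₁ (bijective_of_surjective_of_card_le p₁ hp₁ hle)).symm⟩

theorem hasSchurMultiplier_congr (e : G ≃* H) {A : Type w} [CommGroup A]
    (h : HasSchurMultiplier G A) : HasSchurMultiplier H A := by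
  haveI := finite_of_hasSchurMultiplier h
  haveI : Finite H := Finite.of_equiv _ e.toEquiv
  obtain ⟨a⟩ := nonempty_mulEquiv_mult h
  obtain ⟨b⟩ := nonempty_mult_congr e
  exact hasSchurMultiplier_of_mulEquiv (a.trans b)

end Congr

/-- For a finite group, every free presentation computes the multiplier. -/
theorem nonempty_mult_pres {F : Type v} {G : Type u} [Group F] [Group G] [Finite G] [IsFreeGroup F]
    (f : F →* G) (hf : Function.Surjective f) : Nonempty (mult f ≃* Mult G) := by
  have := finite_mult f hf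
  obtain ⟨π₁, hπ₁⟩ := exists_surjective_mult (preHom f) (preHom_surjective f hf) (preHom_ker_le_center f)
  obtain ⟨π₂, hπ₂⟩ := exists_surjective_mult_of_pres f hf (preHom (stdPres G))
    (preHom_surjective _ stdPres_surjective) (preHom_ker_le_center _)
  let p : mult f →* Mult G := π₂
  have hle : Nat.card (mult f) ≤ Nat.card (Mult G) := Nat.card_le_card_of_surjective π₁ hπ₁
  exact ⟨MulEquiv.ofBijective p (bijective_of_surjective_of_card_le p hπ₂ hle)⟩

end Cfsg.Agent.Schur
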