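/-
Central extensions of perfect groups.
-/
import Cfsg.Agent.Lib.Schur.Basic

set_option autoImplicit false
set_option linter.all false

open Cfsg Subgroup
open scoped commutatorElement IsMulCommutative

universe u v w

namespace Cfsg.Agent.Schur

variable {G : Type u} [Group G]

theorem monoidHom_eq_one_of_perfect (hG : Group.IsPerfect G) {A : Type v} [CommGroup A]
    (φ : G →* A) (g : G) : φ g = 1 :=
  MonoidHom.mem_ker.1 (Abelianization.commutator_subset_ker φ (Group.IsPerfect.mem_commutator (hP := hG)))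

/-- Two lifts of one homomorphism from a perfect group along a central extension are equal. -/
theorem hom_ext_of_perfect (hG : Group.IsPerfect G) {X : Type v} {Q : Type w} [Group X] [Group Q]
    (ξ : X →* Q) (hξ : ξ.ker ≤ center X) (η₁ η₂ : G →* X) (h : ξ.comp η₁ = ξ.comp η₂) :
    η₁ = η₂ := by
  have hc : ∀ g, (η₁ g)⁻¹ * η₂ g ∈ center X := fun g => hξ (by
    rw [MonoidHom.mem_ker, map_mul, map_inv, ← MonoidHom.comp_apply, ← MonoidHom.comp_apply, h,
      inv_mul_cancel])
  let φ : G →* center X := MonoidHom.mk' (fun g => ⟨(η₁ g)⁻¹ * η₂ g, hc g⟩) fun a b => Subtype.ext (by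
    show (η₁ (a * b))⁻¹ * η₂ (a * b) = (η₁ a)⁻¹ * η₂ a * ((η₁ b)⁻¹ * η₂ b)
    rw [map_mul, map_mul, mul_inv_rev, ← mul_assoc ((η₁ a)⁻¹ * η₂ a),
      ← Subgroup.mem_center_iff.1 (hc a) (η₁ b)⁻¹]
    group)
  ext g
  exact inv_mul_eq_one.1 (congrArg Subtype.val (monoidHom_eq_one_of_perfect hG φ g))

/-- In a perfect group, an element central modulo the centre is central. -/
theorem mem_center_of_perfect (hG : Group.IsPerfect G) (x : G) (hx : ∀ g, ⁅x, g⁆ ∈ center G) :
    x ∈ center G := by
  rw [Subgroup.mem_center_iff]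
  intro g
  let φ : G →* center G := MonoidHom.mk' (fun g => ⟨⁅x, g⁆, hx g⟩) fun a b => Subtype.ext (by
    show ⁅x, a * b⁆ = ⁅x, a⁆ * ⁅x, b⁆
    have h1 : ⁅x, a * b⁆ = ⁅x, a⁆ * (a * ⁅x, b⁆ * a⁻¹) := by
      simp only [commutatorElement_def]; group
    rw [h1, Subgroup.mem_center_iff.1 (hx b) a, mul_inv_cancel_right])
  exact (commutatorElement_eq_one_iff_mul_comm.1
    (congrArg Subtype.val (monoidHom_eq_one_of_perfect hG φ g))).symm

theorem isPerfect_of_stem (hG : Group.IsPerfect G) {Γ : Type v} [Group Γ] (σ : Γ →* G)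
    (hσ : IsStemExtension σ) : Group.IsPerfect Γ := by
  refine ⟨eq_top_iff.2 fun x _ => ?_⟩
  have h : (commutator Γ).map σ = commutator G := by
    rw [_root_.commutator_def, map_commutator, Subgroup.map_top_of_surjective σ hσ.1, _root_.commutator_def]
  obtain ⟨y, hy, hyx⟩ : σ x ∈ (commutator Γ).map σ := by
    rw [h]; exact Group.IsPerfect.mem_commutator (hP := hG)
  rw [show x = y * (y⁻¹ * x) by group]
  exact mul_mem hy (hσ.2.2 (by simp [MonoidHom.mem_ker, hyx]))

/-- The universal central extension of a perfect group. -/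
theorem exists_universal {Q : Type u} [Group Q] [Finite Q] (hQ : Group.IsPerfect Q) :
    ∃ (G : Type u) (_ : Group G) (_ : Finite G) (π : G →* Q), Group.IsPerfect G ∧ IsStemExtension π ∧
      ∀ (X : Type w) [Group X] (ξ : X →* Q), Function.Surjective ξ → ξ.ker ≤ center X →
        ∃! η : G →* X, ξ.comp η = π := by
  let K := Pre (stdPres Q)
  let φ := preHom (stdPres Q)
  have hφc : φ.ker ≤ center K := preHom_ker_le_center _
  have hφs : Function.Surjective φ := preHom_surjective _ stdPres_surjective
  haveI : Finite (commutator K) := finite_commutator_of_central φ hφs hφc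
  let π : commutator K →* Q := φ.comp (commutator K).subtype
  have hπ : Function.Surjective π := fun q => by
    have h : (commutator K).map φ = commutator Q := by
      rw [_root_.commutator_def, map_commutator, Subgroup.map_top_of_surjective φ hφs,
        _root_.commutator_def]
    obtain ⟨x, hx, hxq⟩ : q ∈ (commutator K).map φ := by
      rw [h]; exact Group.IsPerfect.mem_commutator (hP := hQ)
    exact ⟨⟨x, hx⟩, hxq⟩
  have hperf : Group.IsPerfect (commutator K) := by
    rw [Subgroup.isPerfect_iff]
    have h := commutator_eq_map φ hφc (commutator K).subtype hπ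
    rw [map_subtype_commutator] at h
    exact h.symm
  refine ⟨commutator K, inferInstance, inferInstance, π, hperf, ⟨hπ, fun x hx => ?_, fun x _ =>
    Group.IsPerfect.mem_commutator (hP := hperf)⟩, fun X _ ξ hξ hξc => ?_⟩
  · rw [Subgroup.mem_center_iff]
    exact fun y => Subtype.ext (Subgroup.mem_center_iff.1 (hφc hx) y)
  · obtain ⟨ψ, hψ⟩ := exists_preLift (stdPres Q) ξ hξ hξc
    have h : ξ.comp (ψ.comp (commutator K).subtype) = π := by rw [← MonoidHom.comp_assoc, hψ]
    exact ⟨_, h, fun η hη => hom_ext_of_perfect hperf ξ hξc η _ (hη.trans h.symm)⟩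

/-- A group with trivial multiplier lifts (if perfect) along every central extension. -/
theorem exists_lift_of_trivial {G : Type u} {Q : Type v} [Group G] [Group Q]
    (hG : Group.IsPerfect G) (h1 : HasCyclicSchurMultiplier G 1) (π : G →* Q)
    {X : Type w} [Group X] (ξ : X →* Q) (hξ : Function.Surjective ξ) (hξc : ξ.ker ≤ center X) :
    ∃ η : G →* X, ξ.comp η = π := by
  let P : Subgroup (G × X) := (π.comp (MonoidHom.fst G X)).eqLocus (ξ.comp (MonoidHom.snd G X))
  let ρ : P →* G := (MonoidHom.fst G X).comp P.subtype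
  have hρ : Function.Surjective ρ := fun g => by
    obtain ⟨x, hx⟩ := hξ (π g)
    exact ⟨⟨(g, x), hx.symm⟩, rfl⟩
  have hρc : ρ.ker ≤ center P := by
    rintro ⟨⟨g, x⟩, hx⟩ h
    have hg : g = 1 := h
    subst hg
    have hx' : x ∈ ξ.ker := by
      have : π 1 = ξ x := hx
      rw [MonoidHom.mem_ker, ← this, map_one]
    rw [Subgroup.mem_center_iff]
    rintro ⟨⟨g', x'⟩, hx''⟩
    refine Subtype.ext (Prod.ext ?_ ?_)
    · show g' * 1 = 1 * g'
      simp
    · exact Subgroup.mem_center_iff.1 (hξc hx') x'
  have hbot := ker_inf_commutator_eq_bot h1 ρ hρ hρc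
  let ρ' : commutator P →* G := ρ.comp (commutator P).subtype
  have hinj : Function.Injective ρ' := by
    rw [injective_iff_map_eq_one]
    intro x hx
    have : (x : P) ∈ (⊥ : Subgroup P) := hbot ▸ Subgroup.mem_inf.2 ⟨hx, x.2⟩
    exact Subtype.ext (Subgroup.mem_bot.1 this)
  have hsurj : Function.Surjective ρ' := fun g => by
    have h : (commutator P).map ρ = commutator G := by
      rw [_root_.commutator_def, map_commutator, Subgroup.map_top_of_surjective ρ hρ,
        _root_.commutator_def]
    obtain ⟨x, hx, hxg⟩ : g ∈ (commutator P).map ρ := by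
      rw [h]; exact Group.IsPerfect.mem_commutator (hP := hG)
    exact ⟨⟨x, hx⟩, hxg⟩
  let e := MulEquiv.ofBijective ρ' ⟨hinj, hsurj⟩
  refine ⟨((MonoidHom.snd G X).comp P.subtype).comp ((commutator P).subtype.comp e.symm.toMonoidHom),
    MonoidHom.ext fun g => ?_⟩
  have h2 : ρ' (e.symm g) = g := e.apply_symm_apply g
  have h3 : π (((e.symm g : commutator P) : P) : G × X).1 = ξ (((e.symm g : commutator P) : P) : G × X).2 :=
    ((e.symm g : commutator P) : P).2
  exact h3.symm.trans (congrArg π h2)

end Cfsg.Agent.Schur
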