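/-
Transfer for central extensions and restriction of Schur multipliers.
* `pow_index_mem_commutator`: a central element of `Γ'` in `H` has its index-th power in `H'`;
* `exists_injective_of_surjective`: quotients of finite abelian groups embed;
* `exists_res_cor`: maps `Mult G → Mult U → Mult G` composing to the `[G : U]`-th power map;
* `exists_primaryComponent_retract`: the `p`-part of `Mult G` is a direct factor of `Mult P`.
-/
import Cfsg.Agent.Lib.Schur.Basic

set_option autoImplicit false
set_option linter.all false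

open Cfsg Subgroup
open scoped commutatorElement IsMulCommutative

universe u v w

namespace Cfsg.Agent.Schur

theorem pow_index_mem_commutator {Γ : Type u} [Group Γ] (H : Subgroup Γ) [H.FiniteIndex] {z : Γ}
    (hz : z ∈ center Γ) (hz' : z ∈ commutator Γ) :
    z ^ H.index ∈ (commutator H).map H.subtype := by
  have key : ∀ (k : ℕ) (g₀ : Γ), g₀⁻¹ * z ^ k * g₀ ∈ H → g₀⁻¹ * z ^ k * g₀ = z ^ k := by
    intro k g₀ _
    rw [mul_assoc, ← (Subgroup.mem_center_iff.1 (pow_mem hz k)) g₀, inv_mul_cancel_left]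
  have h := MonoidHom.transfer_eq_pow (Abelianization.of : H →* Abelianization H) z key
  have h1 : MonoidHom.transfer (Abelianization.of : H →* Abelianization H) z = 1 :=
    Abelianization.commutator_subset_ker _ hz'
  rw [h1] at h
  have h2 := MonoidHom.mem_ker.2 h.symm
  rw [Abelianization.ker_of] at h2
  exact ⟨_, h2, rfl⟩

theorem exists_injective_of_surjective {B : Type v} {C : Type w} [CommGroup B] [CommGroup C]
    [Finite B] (π : B →* C) (hπ : Function.Surjective π) :
    ∃ i : C →* B, Function.Injective i := by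
  haveI : Finite C := Finite.of_surjective π hπ
  haveI : NeZero (Monoid.exponent B) := ⟨Monoid.exponent_ne_zero_of_finite⟩
  haveI : NeZero (Monoid.exponent C) := ⟨Monoid.exponent_ne_zero_of_finite⟩
  obtain ⟨eC⟩ := CommGroup.monoidHom_mulEquiv_of_hasEnoughRootsOfUnity C ℂ
  obtain ⟨eB⟩ := CommGroup.monoidHom_mulEquiv_of_hasEnoughRootsOfUnity B ℂ
  refine ⟨eB.toMonoidHom.comp ((MonoidHom.compHom' π).comp eC.symm.toMonoidHom), ?_⟩
  intro x y hxy
  have h1 : (MonoidHom.compHom' π) (eC.symm x) = (MonoidHom.compHom' π) (eC.symm y) :=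
    eB.injective hxy
  refine eC.symm.injective (MonoidHom.ext fun c => ?_)
  obtain ⟨b, rfl⟩ := hπ c
  exact DFunLike.congr_fun h1 b

theorem exists_embedding_pow_range {G : Type u} [Group G] [Finite G] (U : Subgroup G) :
    ∃ i : (powMonoidHom U.index : Mult G →* Mult G).range →* Mult U, Function.Injective i := by
  obtain ⟨Γ, _, _, σ, hσ, ⟨e⟩⟩ := exists_cover G
  let τ := σ.subgroupComap U
  have hτs : Function.Surjective τ := σ.subgroupComap_surjective_of_surjective U hσ.1
  have hτk : ∀ x : U.comap σ, x ∈ τ.ker ↔ (x : Γ) ∈ σ.ker := fun x => by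
    simp only [MonoidHom.mem_ker]
    exact Subtype.ext_iff
  have hτc : τ.ker ≤ center (U.comap σ) := fun x hx => by
    rw [Subgroup.mem_center_iff]
    exact fun y => Subtype.ext (Subgroup.mem_center_iff.1 (hσ.2.1 ((hτk x).1 hx)) y)
  obtain ⟨π, hπ⟩ := exists_surjective_mult τ hτs hτc
  haveI : IsMulCommutative ↥(τ.ker ⊓ commutator (U.comap σ)) :=
    ⟨⟨fun a b => Subtype.ext (Subgroup.mem_center_iff.1 (hτc b.2.1) a.1)⟩⟩
  obtain ⟨i, hi⟩ := exists_injective_of_surjective π hπ
  let g : ↥(τ.ker ⊓ commutator (U.comap σ)) →* Mult G :=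
    e.toMonoidHom.comp
      { toFun := fun x => ⟨((x : U.comap σ) : Γ), (hτk _).1 x.2.1⟩
        map_one' := rfl
        map_mul' := fun _ _ => rfl }
  have hg : Function.Injective g := e.injective.comp fun a b h =>
    Subtype.ext (Subtype.ext (congrArg (fun t : σ.ker => (t : Γ)) h))
  have hrange : ∀ y : (powMonoidHom U.index : Mult G →* Mult G).range,
      ∃ x, g x = (y : Mult G) := by
    rintro ⟨_, a, rfl⟩
    have hidx : (U.comap σ).index = U.index := U.index_comap_of_surjective hσ.1
    obtain ⟨z, rfl⟩ := e.surjective a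
    haveI : (U.comap σ).FiniteIndex := inferInstance
    obtain ⟨x, hx, hxz⟩ :=
      pow_index_mem_commutator (U.comap σ) (hσ.2.1 z.2) (hσ.2.2 z.2)
    rw [hidx] at hxz
    have hxk : x ∈ τ.ker := (hτk x).2 (by
      have : (x : Γ) = (z : Γ) ^ U.index := hxz
      rw [this]; exact pow_mem z.2 _)
    refine ⟨⟨x, hxk, hx⟩, ?_⟩
    show e _ = (powMonoidHom U.index) (e z)
    rw [powMonoidHom_apply, ← map_pow]
    congr 1
    exact Subtype.ext hxz
  let s : (powMonoidHom U.index : Mult G →* Mult G).range →* ↥(τ.ker ⊓ commutator (U.comap σ)) :=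
    MonoidHom.mk' (fun y => (hrange y).choose) fun a b => hg (by
      rw [map_mul, (hrange a).choose_spec, (hrange b).choose_spec, (hrange (a * b)).choose_spec]
      rfl)
  refine ⟨i.comp s, hi.comp ?_⟩
  intro a b h
  have := congrArg g h
  simp only [s, MonoidHom.mk'_apply, (hrange a).choose_spec, (hrange b).choose_spec] at this
  exact Subtype.ext this

/-- The transfer to `Abelianization S` of an element of a normal subgroup inside `S`. -/
theorem transfer_eq_prod_conj {F : Type v} [Group F] {A : Type w} [CommGroup A] (S : Subgroup F)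
    [S.FiniteIndex] [inst : Fintype (F ⧸ S)] (R : Subgroup F) [R.Normal] (hRS : R ≤ S) (ϕ : S →* A)
    (r : F) (hr : r ∈ R) :
    MonoidHom.transfer ϕ r =
      ∏ q : F ⧸ S, ϕ ⟨q.out⁻¹ * r * q.out, hRS ((Subgroup.Normal.conj_mem' inferInstance r hr) _)⟩ := by
  let T : S.LeftTransversal :=
    ⟨Set.range Quotient.out, Subgroup.isComplement_range_left fun q => Quotient.out_eq' q⟩
  have hT : ∀ q, (T.2.leftQuotientEquiv q : F) = q.out := fun q =>
    Subgroup.IsComplement.leftQuotientEquiv_apply (fun q => Quotient.out_eq' q) q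
  have hfix : ∀ q : F ⧸ S, r⁻¹ • q = q := by
    intro q
    obtain ⟨x, rfl⟩ := QuotientGroup.mk_surjective q
    rw [MulAction.Quotient.smul_mk, QuotientGroup.eq, smul_eq_mul]
    have h : x⁻¹ * r * x ∈ R := Subgroup.Normal.conj_mem' inferInstance r hr x
    simpa [mul_assoc] using hRS h
  rw [MonoidHom.transfer_def ϕ T r, Subgroup.leftTransversals.diff]
  obtain rfl : inst = S.fintypeQuotientOfFiniteIndex := Subsingleton.elim _ _
  refine Finset.prod_congr rfl fun q _ => ?_
  congr 1
  apply Subtype.ext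
  have h1 : ((r • T).2.leftQuotientEquiv q : F) = r * q.out := by
    rw [Subgroup.smul_apply_eq_smul_apply_inv_smul, hfix, hT, smul_eq_mul]
  show (T.2.leftQuotientEquiv q : F)⁻¹ * ((r • T).2.leftQuotientEquiv q : F) = q.out⁻¹ * r * q.out
  rw [h1, hT q, mul_assoc]

/-- Restriction and corestriction. -/
theorem exists_res_cor {G : Type u} [Group G] [Finite G] (U : Subgroup G) :
    ∃ (T : Mult G →* Mult U) (ε : Mult U →* Mult G), ∀ a, ε (T a) = a ^ U.index := by
  classical
  let f := stdPres G
  have hf : Function.Surjective f := stdPres_surjective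
  let S : Subgroup (FreeGroup G) := U.comap f
  let fS : S →* U := f.subgroupComap U
  have hfS : Function.Surjective fS := f.subgroupComap_surjective_of_surjective U hf
  have hidx : S.index = U.index := U.index_comap_of_surjective hf
  haveI : S.FiniteIndex := ⟨by rw [hidx]; exact Subgroup.FiniteIndex.index_ne_zero⟩
  letI := S.fintypeQuotientOfFiniteIndex
  have hRS : f.ker ≤ S := fun x hx => by
    show f x ∈ U
    rw [hx]; exact U.one_mem
  have hkS : ∀ x : S, x ∈ fS.ker ↔ (x : FreeGroup G) ∈ f.ker := fun x => by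
    simp only [MonoidHom.mem_ker]
    exact Subtype.ext_iff
  -- the natural map
  have hεwd : rel fS ≤ ((QuotientGroup.mk' (rel f)).comp S.subtype).ker := by
    rw [commutator_le]
    intro a ha b _
    rw [MonoidHom.mem_ker, MonoidHom.comp_apply, map_commutatorElement, QuotientGroup.mk'_apply,
      QuotientGroup.eq_one_iff]
    exact commutator_mem_commutator ((hkS a).1 ha) (mem_top _)
  let ε₀ : Pre fS →* Pre f := QuotientGroup.lift (rel fS) _ hεwd
  have hε₀ : ∀ x : S, ε₀ (QuotientGroup.mk x) = QuotientGroup.mk (x : FreeGroup G) := fun x => rfl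
  have hεmult : ∀ x ∈ mult fS, ε₀ x ∈ mult f := by
    intro x hx
    obtain ⟨h1, h2⟩ := Subgroup.mem_inf.1 hx
    refine Subgroup.mem_inf.2 ⟨?_, ?_⟩
    · obtain ⟨a, rfl⟩ := QuotientGroup.mk_surjective x
      exact (hkS a).1 h1
    · have : (commutator (Pre fS)).map ε₀ ≤ commutator (Pre f) := by
        rw [_root_.commutator_def, map_commutator, _root_.commutator_def]
        exact commutator_mono le_top le_top
      exact this (mem_map_of_mem _ h2)
  let ε : mult fS →* mult f := (ε₀.comp (mult fS).subtype).codRestrict (mult f) fun x => hεmult x x.2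
  -- conjugates in `ker (Pre fS → U)`
  haveI hZ : IsMulCommutative (preHom fS).ker :=
    ⟨⟨fun a b => Subtype.ext (Subgroup.mem_center_iff.1 (preHom_ker_le_center fS b.2) a.1)⟩⟩
  have hmem : ∀ (g : FreeGroup G) (r : f.ker), g⁻¹ * (r : FreeGroup G) * g ∈ f.ker := fun g r =>
    Subgroup.Normal.conj_mem' inferInstance _ r.2 g
  let c : FreeGroup G → f.ker →* (preHom fS).ker := fun g =>
    { toFun := fun r => ⟨QuotientGroup.mk (⟨g⁻¹ * r * g, hRS (hmem g r)⟩ : S),
        (hkS ⟨g⁻¹ * r * g, hRS (hmem g r)⟩).2 (hmem g r)⟩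
      map_one' := Subtype.ext (congrArg QuotientGroup.mk (Subtype.ext (by simp)))
      map_mul' := fun a b => Subtype.ext (by
        show (QuotientGroup.mk _ : Pre fS) = QuotientGroup.mk _ * QuotientGroup.mk _
        rw [← QuotientGroup.mk_mul]
        exact congrArg QuotientGroup.mk (Subtype.ext (by
          show g⁻¹ * ((a : FreeGroup G) * b) * g = g⁻¹ * a * g * (g⁻¹ * b * g)
          group))) }
  have hcwd : ∀ g g' : FreeGroup G, (g : FreeGroup G ⧸ S) = g' → c g = c g' := by
    intro g g' h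
    rw [QuotientGroup.eq] at h
    apply MonoidHom.ext
    intro r
    apply Subtype.ext
    set s : S := ⟨g⁻¹ * g', h⟩ with hs
    set a : S := ⟨g⁻¹ * r * g, hRS (hmem g r)⟩ with ha
    have hcent : (QuotientGroup.mk a : Pre fS) ∈ center (Pre fS) :=
      preHom_ker_le_center fS ((hkS a).2 (hmem g r))
    have : (QuotientGroup.mk (s⁻¹ * a * s) : Pre fS) = QuotientGroup.mk a := by
      rw [QuotientGroup.mk_mul, QuotientGroup.mk_mul, QuotientGroup.mk_inv, mul_assoc,
        ← (Subgroup.mem_center_iff.1 hcent) _, inv_mul_cancel_left]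
    show (QuotientGroup.mk a : Pre fS) = QuotientGroup.mk _
    rw [← this]
    refine congrArg QuotientGroup.mk (Subtype.ext ?_)
    show (g⁻¹ * g')⁻¹ * (g⁻¹ * r * g) * (g⁻¹ * g') = g'⁻¹ * r * g'
    group
  let N : f.ker →* (preHom fS).ker := ∏ q : FreeGroup G ⧸ S, c q.out
  have hN : ∀ r, N r = ∏ q : FreeGroup G ⧸ S, c q.out r := fun r => MonoidHom.finset_prod_apply _ _ _
  have hNconj : ∀ (x : FreeGroup G) (r : f.ker),
      N ⟨x * r * x⁻¹, Subgroup.Normal.conj_mem inferInstance _ r.2 x⟩ = N r := by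
    intro x r
    rw [hN, hN]
    refine Fintype.prod_equiv (MulAction.toPerm x⁻¹) _ _ fun q => ?_
    rw [MulAction.toPerm_apply]
    have h : ((x⁻¹ * q.out : FreeGroup G) : FreeGroup G ⧸ S) = ((x⁻¹ • q).out : FreeGroup G) := by
      rw [QuotientGroup.out_eq']
      conv_rhs => rw [← QuotientGroup.out_eq' q]
      rfl
    rw [← hcwd _ _ h]
    refine Subtype.ext (congrArg QuotientGroup.mk (Subtype.ext ?_))
    show q.out⁻¹ * (x * r * x⁻¹) * q.out = (x⁻¹ * q.out)⁻¹ * r * (x⁻¹ * q.out)
    group
  have hNrel : (rel f).subgroupOf f.ker ≤ N.ker := by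
    have : rel f ≤ N.ker.map f.ker.subtype := by
      rw [commutator_le]
      intro a ha x _
      refine ⟨⟨⁅a, x⁆, rel_le f (commutator_mem_commutator ha (mem_top x))⟩, ?_, rfl⟩
      rw [SetLike.mem_coe, MonoidHom.mem_ker]
      have : (⟨⁅a, x⁆, rel_le f (commutator_mem_commutator ha (mem_top x))⟩ : f.ker) =
          (⟨a, ha⟩ : f.ker) * ⟨x * ((⟨a, ha⟩ : f.ker)⁻¹ : f.ker) * x⁻¹,
            Subgroup.Normal.conj_mem inferInstance _ ((⟨a, ha⟩ : f.ker)⁻¹).2 x⟩ := by
        apply Subtype.ext
        simp [commutatorElement_def, mul_assoc]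
      rw [this, map_mul, hNconj, map_inv, mul_inv_cancel]
    intro r hr
    obtain ⟨r', hr', h⟩ := this hr
    rwa [Subtype.ext h] at hr'
  let mkR : f.ker →* (preHom f).ker :=
    ((QuotientGroup.mk' (rel f)).comp f.ker.subtype).codRestrict _ fun r => r.2
  have hmkR : Function.Surjective mkR := by
    rintro ⟨x, hx⟩
    obtain ⟨a, rfl⟩ := QuotientGroup.mk_surjective x
    exact ⟨⟨a, hx⟩, rfl⟩
  have hmkRker : mkR.ker ≤ N.ker := fun r hr => hNrel (by
    have : (QuotientGroup.mk (r : FreeGroup G) : Pre f) = 1 := congrArg Subtype.val hr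
    rwa [QuotientGroup.eq_one_iff] at this)
  let N' : (preHom f).ker →* (preHom fS).ker := mkR.liftOfSurjective hmkR ⟨N, hmkRker⟩
  have hN' : ∀ r, N' (mkR r) = N r := fun r => MonoidHom.liftOfRightInverse_comp_apply _ _ _ ⟨N, hmkRker⟩ r
  have hNmult : ∀ x : mult f, (N' ⟨x, x.2.1⟩ : Pre fS) ∈ mult fS := by
    intro x
    obtain ⟨⟨a, ha⟩, har⟩ := hmkR ⟨x, x.2.1⟩
    rw [← har, hN']
    refine Subgroup.mem_inf.2 ⟨(N ⟨a, ha⟩).2, ?_⟩
    have ha' : a ∈ commutator (FreeGroup G) := by
      have h1 : (QuotientGroup.mk a : Pre f) ∈ commutator (Pre f) := by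
        have : (QuotientGroup.mk a : Pre f) = (x : Pre f) := congrArg Subtype.val har
        rw [this]; exact x.2.2
      have h2 : commutator (Pre f) = (commutator (FreeGroup G)).map (QuotientGroup.mk' (rel f)) := by
        rw [_root_.commutator_def, _root_.commutator_def, map_commutator,
          Subgroup.map_top_of_surjective _ (QuotientGroup.mk'_surjective _)]
      rw [h2] at h1
      obtain ⟨b, hb, hba⟩ := h1
      have h3 : b⁻¹ * a ∈ rel f := by rwa [← QuotientGroup.eq]
      have h4 : rel f ≤ commutator (FreeGroup G) := by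
        rw [_root_.commutator_def]; exact commutator_mono le_top le_rfl
      rw [show a = b * (b⁻¹ * a) by group]
      exact mul_mem hb (h4 h3)
    have ht := transfer_eq_prod_conj S f.ker hRS (Abelianization.of : S →* Abelianization S) a ha
    have h1 : MonoidHom.transfer (Abelianization.of : S →* Abelianization S) a = 1 :=
      Abelianization.commutator_subset_ker _ ha'
    rw [h1] at ht
    let L : Pre fS →* Abelianization (Pre fS) := Abelianization.of
    rw [← Abelianization.ker_of, MonoidHom.mem_ker]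
    have : (Abelianization.of (N ⟨a, ha⟩ : Pre fS) : Abelianization (Pre fS)) =
        Abelianization.map (QuotientGroup.mk' (rel fS))
          (∏ q : FreeGroup G ⧸ S, Abelianization.of
            (⟨q.out⁻¹ * a * q.out, hRS (hmem q.out ⟨a, ha⟩)⟩ : S)) := by
      rw [hN, map_prod]
      show (Abelianization.of.comp (preHom fS).ker.subtype) _ = _
      rw [map_prod]
      refine Finset.prod_congr rfl fun q _ => ?_
      rw [Abelianization.map_of]
      rfl
    rw [this, ← ht, map_one]
  let T : mult f →* mult fS :=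
    ((preHom fS).ker.subtype.comp (N'.comp (Subgroup.inclusion (mult_le_ker f)))).codRestrict _ hNmult
  have hεT : ∀ x, ε (T x) = x ^ U.index := by
    intro x
    obtain ⟨⟨a, ha⟩, har⟩ := hmkR ⟨x, x.2.1⟩
    have hax : (QuotientGroup.mk a : Pre f) = (x : Pre f) := congrArg Subtype.val har
    apply Subtype.ext
    show ε₀ (N' ⟨x, x.2.1⟩ : Pre fS) = ((x ^ U.index : mult f) : Pre f)
    rw [← har, hN', hN, Subgroup.coe_pow]
    haveI : IsMulCommutative (preHom f).ker :=
      ⟨⟨fun a b => Subtype.ext (Subgroup.mem_center_iff.1 (preHom_ker_le_center f b.2) a.1)⟩⟩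
    let ε₁ : (preHom fS).ker →* (preHom f).ker :=
      (ε₀.comp (preHom fS).ker.subtype).codRestrict _ fun z => by
        obtain ⟨b, hb⟩ := QuotientGroup.mk_surjective (z : Pre fS)
        have hz : b ∈ fS.ker := by
          have := z.2
          rw [← hb] at this
          exact this
        show ε₀ (z : Pre fS) ∈ _
        rw [← hb]
        exact (hkS b).1 hz
    show ((ε₁ (∏ q : FreeGroup G ⧸ S, c q.out ⟨a, ha⟩) : (preHom f).ker) : Pre f) = _
    rw [map_prod]
    have hq : ∀ q : FreeGroup G ⧸ S, ε₁ (c q.out ⟨a, ha⟩) = mkR ⟨a, ha⟩ := by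
      intro q
      apply Subtype.ext
      show (QuotientGroup.mk (q.out⁻¹ * a * q.out) : Pre f) = QuotientGroup.mk a
      have hcent : (QuotientGroup.mk a : Pre f) ∈ center (Pre f) := preHom_ker_le_center f ha
      rw [QuotientGroup.mk_mul, QuotientGroup.mk_mul, QuotientGroup.mk_inv, mul_assoc,
        ← (Subgroup.mem_center_iff.1 hcent) _, inv_mul_cancel_left]
    rw [Finset.prod_congr rfl fun q _ => hq q, Finset.prod_const, Finset.card_univ,
      ← Nat.card_eq_fintype_card, ← Subgroup.index_eq_card, hidx, Subgroup.coe_pow]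
    exact congrArg (· ^ U.index) hax
  obtain ⟨e⟩ := nonempty_mult_pres fS hfS
  refine ⟨e.toMonoidHom.comp T, ε.comp e.symm.toMonoidHom, fun a => ?_⟩
  simpa using hεT a

theorem exists_primaryComponent_retract {G : Type u} [Group G] [Finite G] (p : ℕ) [hp : Fact p.Prime]
    (U : Subgroup G) (hU : ¬ p ∣ U.index) {A : Type v} {B : Type w} [CommGroup A] [CommGroup B]
    [Finite A] (eA : A ≃* Mult G) (eB : B ≃* Mult U) :
    ∃ C D : Subgroup B, C ⊓ D = ⊥ ∧ C ⊔ D = ⊤ ∧ Nonempty (CommGroup.primaryComponent A p ≃* C) := by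
  obtain ⟨T, ε, hTε⟩ := exists_res_cor U
  let i : A →* B := eB.symm.toMonoidHom.comp (T.comp eA.toMonoidHom)
  let j : B →* A := eA.symm.toMonoidHom.comp (ε.comp eB.toMonoidHom)
  have hji : ∀ a, j (i a) = a ^ U.index := fun a => by simp [i, j, hTε]
  set v := (Nat.card A).factorization p
  set q := p ^ v
  set m' := Nat.card A / p ^ v
  have hm' : ¬ p ∣ m' := Nat.not_dvd_ordCompl hp.out Nat.card_pos.ne'
  have hcop : Nat.Coprime (U.index * m') q :=
    Nat.Coprime.pow_right _ (Nat.Coprime.symm ((hp.out.coprime_iff_not_dvd).2 fun h =>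
      (hp.out.dvd_mul.1 h).elim hU hm'))
  have hq : 0 < q := pow_pos hp.out.pos _
  obtain ⟨k, -, hk⟩ := Nat.exists_mul_mod_eq_of_coprime 1 hcop hq.ne'
  have hcomp : ∀ x : A, x ^ m' ∈ CommGroup.primaryComponent A p := fun x =>
    ⟨v, by rw [← pow_mul, Nat.div_mul_cancel (Nat.ordProj_dvd _ _), pow_card_eq_one']⟩
  let r : B →* CommGroup.primaryComponent A p :=
    ((powMonoidHom k).comp ((powMonoidHom m').comp j)).codRestrict _ fun b => pow_mem (hcomp _) k
  let i' : CommGroup.primaryComponent A p →* B := i.comp (CommGroup.primaryComponent A p).subtype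
  have hri : ∀ a, r (i' a) = a := by
    intro a
    obtain ⟨l, hl⟩ := a.2
    have hord : orderOf (a : A) ∣ q := by
      obtain ⟨t, -, ht⟩ := (Nat.dvd_prime_pow hp.out).1 (orderOf_dvd_of_pow_eq_one hl)
      rw [ht]
      exact pow_dvd_pow p ((hp.out.pow_dvd_iff_le_factorization Nat.card_pos.ne').1
        (ht ▸ orderOf_dvd_natCard (a : A)))
    apply Subtype.ext
    show ((j (i a)) ^ m') ^ k = (a : A)
    rw [hji, ← pow_mul, ← pow_mul, ← mul_assoc]
    conv_rhs => rw [← pow_one (a : A)]
    rw [pow_eq_pow_iff_modEq]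
    exact Nat.ModEq.of_dvd hord hk
  refine ⟨i'.range, r.ker, ?_, ?_, ⟨MonoidHom.ofInjective (Function.LeftInverse.injective hri)⟩⟩
  · rw [eq_bot_iff]
    rintro _ ⟨⟨a, rfl⟩, h⟩
    have h' : r (i' a) = 1 := h
    rw [hri] at h'
    simp [h']
  · rw [eq_top_iff]
    intro b _
    rw [show b = i' (r b) * ((i' (r b))⁻¹ * b) by group]
    exact mul_mem_sup ⟨r b, rfl⟩ (by simp [MonoidHom.mem_ker, hri])

end Cfsg.Agent.Schur
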