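/-
Central extensions from bilinear cocycles, cyclic groups, and direct products.
-/
import Cfsg.Agent.Lib.Schur.Basic

set_option autoImplicit false
set_option linter.all false

open Cfsg Subgroup
open scoped commutatorElement IsMulCommutative TensorProduct

universe u v w

namespace Cfsg.Agent.Schur

/-! ### Bilinear extensions -/

/-- `A × G` with product `(a, g) (b, h) = (a b c(g, h), g h)`. -/
@[ext] structure BExt {G : Type u} {A : Type v} [Group G] [CommGroup A] (c : G →* (G →* A)) :
    Type (max u v) where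
  /-- fibre coordinate -/
  fib : A
  /-- base coordinate -/
  base : G

namespace BExt

variable {G : Type u} {A : Type v} [Group G] [CommGroup A] (c : G →* (G →* A))

instance : Mul (BExt c) := ⟨fun x y => ⟨x.fib * y.fib * c x.base y.base, x.base * y.base⟩⟩
instance : One (BExt c) := ⟨⟨1, 1⟩⟩
instance : Inv (BExt c) := ⟨fun x => ⟨x.fib⁻¹ * c x.base x.base, x.base⁻¹⟩⟩

theorem mul_fib (x y : BExt c) : (x * y).fib = x.fib * y.fib * c x.base y.base := rfl
theorem mul_base (x y : BExt c) : (x * y).base = x.base * y.base := rfl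
theorem one_fib : (1 : BExt c).fib = 1 := rfl
theorem one_base : (1 : BExt c).base = 1 := rfl

instance : Group (BExt c) :=
  Group.ofLeftAxioms
    (fun x y z => BExt.ext (by
      simp only [mul_fib, mul_base, map_mul, MonoidHom.mul_apply]
      simp only [mul_comm, mul_left_comm, mul_assoc]) (mul_assoc _ _ _))
    (fun x => BExt.ext (by simp [mul_fib, one_fib, one_base]) (one_mul _))
    (fun x => BExt.ext (by
      show x.fib⁻¹ * c x.base x.base * x.fib * c x.base⁻¹ x.base = 1
      rw [map_inv, MonoidHom.inv_apply, mul_comm x.fib⁻¹, mul_assoc (c x.base x.base), inv_mul_cancel,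
        mul_one, mul_inv_cancel]) (inv_mul_cancel _))

/-- Projection to the base. -/
def proj : BExt c →* G where
  toFun := base
  map_one' := rfl
  map_mul' _ _ := rfl

theorem proj_surjective : Function.Surjective (proj c) := fun g => ⟨⟨1, g⟩, rfl⟩

/-- The fibre. -/
def incl : A →* BExt c where
  toFun a := ⟨a, 1⟩
  map_one' := rfl
  map_mul' a b := BExt.ext (by simp [mul_fib]) (by simp [mul_base])

instance [Finite G] [Finite A] : Finite (BExt c) :=
  Finite.of_equiv (A × G)
    { toFun := fun p => ⟨p.1, p.2⟩, invFun := fun x => (x.fib, x.base)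
      left_inv := fun _ => rfl, right_inv := fun _ => rfl }

theorem proj_ker_le_center : (proj c).ker ≤ center (BExt c) := by
  intro x (hx : x.base = 1)
  rw [Subgroup.mem_center_iff]
  intro y
  apply BExt.ext
  · simp [mul_fib, hx, mul_comm]
  · simp [mul_base, hx]

/-- The kernel of the projection. -/
def kerEquiv : (proj c).ker ≃* A where
  toFun x := x.1.fib
  invFun a := ⟨⟨a, 1⟩, rfl⟩
  left_inv x := Subtype.ext (BExt.ext rfl (MonoidHom.mem_ker.1 x.2).symm)
  right_inv _ := rfl
  map_mul' x y := by
    have hx : x.1.base = 1 := x.2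
    show (x.1 * y.1).fib = _
    simp [mul_fib, hx]

theorem commutatorElement_eq {g h : G} (hgh : Commute g h) :
    ⁅(⟨1, g⟩ : BExt c), ⟨1, h⟩⁆ = incl c (c g h / c h g) := by
  have key : (⟨1, g⟩ : BExt c) * ⟨1, h⟩ = incl c (c g h / c h g) * (⟨1, h⟩ * ⟨1, g⟩) := by
    apply BExt.ext
    · simp [mul_fib, mul_base, incl]
    · simp [mul_base, incl, hgh.eq]
  rw [commutatorElement_def, key]
  group

end BExt

/-! ### Cyclic groups -/

theorem commutator_eq_bot_of_cyclic {Γ : Type v} {G : Type u} [Group Γ] [Group G] [IsCyclic G]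
    (σ : Γ →* G) (hc : σ.ker ≤ center Γ) : commutator Γ = ⊥ := by
  rw [_root_.commutator_def, eq_bot_iff, commutator_le]
  intro a _ b _
  rw [Subgroup.mem_bot, commutatorElement_eq_one_iff_mul_comm]
  exact commutative_of_cyclic_center_quotient σ hc a b

theorem hasCyclicSchurMultiplier_of_isCyclic {G : Type u} [Group G] [Finite G] [IsCyclic G] :
    HasCyclicSchurMultiplier G 1 :=
  hasCyclicSchurMultiplier_one_of_forall fun Γ _ _ σ hσ =>
    eq_bot_iff.2 (hσ.2.2.trans (le_of_eq (commutator_eq_bot_of_cyclic σ hσ.2.1)))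

theorem card_pow_eq_one_le {G : Type u} [CommGroup G] [Finite G]
    (h : ∀ p : ℕ, p.Prime → Nat.card (powMonoidHom p : G →* G).ker ≤ p) (n : ℕ) (hn : 0 < n) :
    Nat.card (powMonoidHom n : G →* G).ker ≤ n := by
  induction n using Nat.recOnPosPrimePosCoprime with
  | prime_pow p k hp hk =>
    clear hn hk
    induction k with
    | zero =>
      have : (powMonoidHom (p ^ 0) : G →* G).ker = ⊥ := by
        rw [eq_bot_iff]; intro x hx
        simpa using hx
      rw [this, Subgroup.card_bot, pow_zero]
    | succ k ih =>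
      let f : (powMonoidHom (p ^ (k + 1)) : G →* G).ker →* (powMonoidHom (p ^ k) : G →* G).ker :=
        ((powMonoidHom p).comp (Subgroup.subtype _)).codRestrict _ fun x => by
          have hx : (x : G) ^ p ^ (k + 1) = 1 := x.2
          show ((x : G) ^ p) ^ p ^ k = 1
          rw [← pow_mul, ← pow_succ']; exact hx
      calc Nat.card (powMonoidHom (p ^ (k + 1)) : G →* G).ker = Nat.card f.range * Nat.card f.ker := by
            rw [← Subgroup.index_mul_card f.ker, Subgroup.index_ker]
        _ ≤ p ^ k * p := ?_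
        _ = p ^ (k + 1) := (pow_succ p k).symm
      refine Nat.mul_le_mul ((Subgroup.card_le_card_group f.range).trans ih) ?_
      refine le_trans ?_ (h p hp)
      exact Nat.card_le_card_of_injective
        (fun x => (⟨((x : (powMonoidHom (p ^ (k + 1)) : G →* G).ker) : G), congrArg Subtype.val x.2⟩ :
          (powMonoidHom p : G →* G).ker))
        (fun a b hab => Subtype.ext (Subtype.ext (congrArg Subtype.val hab :)))
  | zero => omega
  | one =>
    have : (powMonoidHom 1 : G →* G).ker = ⊥ := by
      rw [eq_bot_iff]; intro x hx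
      simpa using hx
    rw [this, Subgroup.card_bot]
  | coprime a b ha hb hab iha ihb =>
    let f : (powMonoidHom (a * b) : G →* G).ker →
        (powMonoidHom a : G →* G).ker × (powMonoidHom b : G →* G).ker :=
      fun x => (⟨(x : G) ^ b, by
          show ((x : G) ^ b) ^ a = 1
          rw [← pow_mul, mul_comm b a]; exact x.2⟩,
        ⟨(x : G) ^ a, by
          show ((x : G) ^ a) ^ b = 1
          rw [← pow_mul]; exact x.2⟩)
    have hf : Function.Injective f := fun x y hxy => by
      have h1 : (x : G) ^ b = (y : G) ^ b := congrArg (fun z => (z.1 : G)) hxy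
      have h2 : (x : G) ^ a = (y : G) ^ a := congrArg (fun z => (z.2 : G)) hxy
      have h3 : ((x : G) * (y : G)⁻¹) ^ a = 1 := by rw [mul_pow, inv_pow, h2, mul_inv_cancel]
      have h4 : ((x : G) * (y : G)⁻¹) ^ b = 1 := by rw [mul_pow, inv_pow, h1, mul_inv_cancel]
      have h5 := pow_gcd_eq_one.2 ⟨h3, h4⟩
      rw [hab.gcd_eq_one, pow_one, mul_inv_eq_one] at h5
      exact Subtype.ext h5
    refine (Nat.card_le_card_of_injective f hf).trans ?_
    rw [Nat.card_prod]
    exact Nat.mul_le_mul (iha (by omega)) (ihb (by omega))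

/-- A finite abelian group with trivial multiplier is cyclic. -/
theorem isCyclic_of_hasCyclicSchurMultiplier_one {G : Type u} [CommGroup G] [Finite G]
    (h : HasCyclicSchurMultiplier G 1) : IsCyclic G := by
  classical
  by_contra hnc
  obtain ⟨p, hp, hΩ⟩ : ∃ p : ℕ, p.Prime ∧ p < Nat.card (powMonoidHom p : G →* G).ker := by
    by_contra! hno
    refine hnc ?_
    haveI : Fintype G := Fintype.ofFinite G
    refine isCyclic_of_card_pow_eq_one_le fun n hn => ?_
    refine le_trans (le_of_eq ?_) (card_pow_eq_one_le hno n hn)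
    rw [← Fintype.card_subtype, ← Nat.card_eq_fintype_card]
    rfl
  haveI := Fact.mk hp
  let H : Subgroup G := (powMonoidHom p : G →* G).range
  have hq : p < Nat.card (G ⧸ H) := by
    have h1 := Subgroup.index_mul_card H
    have h2 := Subgroup.index_mul_card (powMonoidHom p : G →* G).ker
    rw [Subgroup.index_ker] at h2
    rw [← Subgroup.index_eq_card]
    have h3 : H.index = Nat.card (powMonoidHom p : G →* G).ker := by
      have hpos : 0 < Nat.card H := Nat.card_pos
      exact Nat.eq_of_mul_eq_mul_right hpos (h1.trans (h2.symm.trans (mul_comm _ _)))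
    rwa [h3]
  have hpx : ∀ x : Additive (G ⧸ H), p • x = 0 := by
    intro x
    obtain ⟨g, hg⟩ := QuotientGroup.mk_surjective (Additive.toMul x)
    apply Additive.toMul.injective
    rw [toMul_nsmul, ← hg, ← QuotientGroup.mk_pow, toMul_zero, QuotientGroup.eq_one_iff]
    exact ⟨g, rfl⟩
  haveI : Module (ZMod p) (Additive (G ⧸ H)) := AddCommGroup.zmodModule hpx
  haveI : Fintype (Additive (G ⧸ H)) := Fintype.ofFinite _
  let b := Module.Basis.ofVectorSpace (ZMod p) (Additive (G ⧸ H))
  haveI : Fintype ((Module.Basis.ofVectorSpaceIndex (ZMod p) (Additive (G ⧸ H)))) := Fintype.ofFinite _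
  obtain ⟨i, j, hij⟩ : ∃ i j : (Module.Basis.ofVectorSpaceIndex (ZMod p) (Additive (G ⧸ H))), i ≠ j := by
    by_contra! hall
    haveI : Subsingleton ((Module.Basis.ofVectorSpaceIndex (ZMod p) (Additive (G ⧸ H)))) := ⟨hall⟩
    have h1 := Module.card_fintype b
    rw [ZMod.card, Fintype.card_eq_nat_card] at h1
    have h2 : Fintype.card ((Module.Basis.ofVectorSpaceIndex (ZMod p) (Additive (G ⧸ H)))) ≤ 1 :=
      Fintype.card_le_one_iff_subsingleton.2 inferInstance
    have h3 : Nat.card (G ⧸ H) ≤ p := by
      rw [show Nat.card (G ⧸ H) = Nat.card (Additive (G ⧸ H)) from rfl, h1]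
      calc p ^ _ ≤ p ^ 1 := Nat.pow_le_pow_right hp.pos h2
        _ = p := pow_one p
    omega
  let f : (Module.Basis.ofVectorSpaceIndex (ZMod p) (Additive (G ⧸ H))) → G →* Multiplicative (ZMod p) :=
    fun k => (AddMonoidHom.toMultiplicativeRight (b.coord k).toAddMonoidHom).comp (QuotientGroup.mk' H)
  let v : (Module.Basis.ofVectorSpaceIndex (ZMod p) (Additive (G ⧸ H))) → Additive (G ⧸ H) :=
    fun k => b k
  obtain ⟨x, hx⟩ := QuotientGroup.mk_surjective (Additive.toMul (v i))
  obtain ⟨y, hy⟩ := QuotientGroup.mk_surjective (Additive.toMul (v j))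
  have hf : ∀ k z g, QuotientGroup.mk g = Additive.toMul (v z) →
      Multiplicative.toAdd (f k g) = if z = k then 1 else 0 := by
    intro k z g hg
    show b.coord k (Additive.ofMul (QuotientGroup.mk g : G ⧸ H)) = _
    rw [hg, ofMul_toMul]
    simp only [v, Module.Basis.coord_apply, Module.Basis.repr_self, Finsupp.single_apply]
  let c : G →* (G →* Multiplicative (ZMod p)) :=
    MonoidHom.mk' (fun g => MonoidHom.mk' (fun h =>
      Multiplicative.ofAdd (Multiplicative.toAdd (f i g) * Multiplicative.toAdd (f j h))) fun h h' => by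
        simp [mul_add]) fun g g' => by
      ext h; simp [add_mul]
  have hstem : IsStemExtension (BExt.proj c) := by
    refine ⟨BExt.proj_surjective c, BExt.proj_ker_le_center c, ?_⟩
    intro z hz
    have h1 : ⁅(⟨1, x⟩ : BExt c), ⟨1, y⟩⁆ ∈ commutator (BExt c) :=
      commutator_mem_commutator (mem_top _) (mem_top _)
    rw [BExt.commutatorElement_eq c (Commute.all x y)] at h1
    have h2 : c x y / c y x = Multiplicative.ofAdd (1 : ZMod p) := by
      apply Multiplicative.toAdd.injective
      show Multiplicative.toAdd (f i x) * Multiplicative.toAdd (f j y) -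
        Multiplicative.toAdd (f i y) * Multiplicative.toAdd (f j x) = 1
      rw [hf i i x hx, hf j j y hy, hf i j y hy, hf j i x hx]
      simp [hij, hij.symm]
    rw [h2] at h1
    have h3 : z = (BExt.incl c (Multiplicative.ofAdd (1 : ZMod p))) ^ (Multiplicative.toAdd z.fib).val := by
      rw [← map_pow]
      refine BExt.ext ?_ (MonoidHom.mem_ker.1 hz)
      show z.fib = Multiplicative.ofAdd (1 : ZMod p) ^ (Multiplicative.toAdd z.fib).val
      apply Multiplicative.toAdd.injective
      simp
    rw [h3]
    exact pow_mem h1 _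
  have h1 := ker_inf_commutator_eq_bot h (BExt.proj c) hstem.1 hstem.2.1
  rw [inf_eq_left.2 hstem.2.2] at h1
  have h2 := Nat.card_congr (BExt.kerEquiv c).toEquiv
  rw [h1, Subgroup.card_bot, Nat.card_congr Multiplicative.toAdd, Nat.card_zmod] at h2
  exact hp.ne_one h2.symm

end Cfsg.Agent.Schur
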