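/-
Schur covers over a fixed group: comparison and (non-)uniqueness.
-/
import Cfsg.Agent.Lib.Schur.Basic

set_option autoImplicit false
set_option linter.all false

open Cfsg Subgroup
open scoped commutatorElement IsMulCommutative

universe u v w

namespace Cfsg.Agent.Schur

variable {Q : Type u} [Group Q]

theorem surjective_preLift {Γ : Type v} [Group Γ] (σ : Γ →* Q) (hσ : IsStemExtension σ)
    (ψ : Pre (stdPres Q) →* Γ) (hψ : σ.comp ψ = preHom (stdPres Q)) : Function.Surjective ψ := by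
  have hm := map_mult (stdPres Q) stdPres_surjective σ hσ.2.1 ψ hψ
  rw [inf_eq_left.2 hσ.2.2] at hm
  intro g
  obtain ⟨x, hx⟩ := preHom_surjective _ (stdPres_surjective (G := Q)) (σ g)
  have h3 : (ψ x)⁻¹ * g ∈ σ.ker := by
    rw [MonoidHom.mem_ker, map_mul, map_inv, ← MonoidHom.comp_apply, hψ, hx, inv_mul_cancel]
  rw [← hm] at h3
  obtain ⟨m, -, hmg⟩ := h3
  exact ⟨x * m, by rw [map_mul, hmg, mul_inv_cancel_left]⟩

/-- The kernel of `Pre → Γ` for a cover `Γ` is a complement of the multiplier. -/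
theorem preLift_ker [Finite Q] {Γ : Type v} [Group Γ] (σ : Γ →* Q) (hσ : IsStemExtension σ)
    (hcard : Nat.card σ.ker = Nat.card (Mult Q))
    (ψ : Pre (stdPres Q) →* Γ) (hψ : σ.comp ψ = preHom (stdPres Q)) :
    ψ.ker ≤ (preHom (stdPres Q)).ker ∧ ψ.ker ⊓ commutator (Pre (stdPres Q)) = ⊥ ∧
      ψ.ker ⊔ mult (stdPres Q) = (preHom (stdPres Q)).ker := by
  have hm := map_mult (stdPres Q) stdPres_surjective σ hσ.2.1 ψ hψ
  rw [inf_eq_left.2 hσ.2.2] at hm
  have hker : ψ.ker ≤ (preHom (stdPres Q)).ker := fun x hx => by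
    rw [MonoidHom.mem_ker, ← hψ, MonoidHom.comp_apply, hx, map_one]
  have hinj : Function.Injective (ψ.subgroupMap (mult (stdPres Q))) :=
    (bijective_of_surjective_of_card_le _ (ψ.subgroupMap_surjective (mult (stdPres Q)))
      (by rw [← hcard, hm])).1
  refine ⟨hker, ?_, le_antisymm (sup_le hker (mult_le_ker _)) ?_⟩
  · rw [eq_bot_iff]
    intro x hx
    obtain ⟨hx1, hx2⟩ := Subgroup.mem_inf.1 hx
    have h : ψ.subgroupMap (mult (stdPres Q)) ⟨x, hker hx1, hx2⟩ = 1 := Subtype.ext hx1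
    exact Subgroup.mem_bot.2 (congrArg Subtype.val (hinj (h.trans (map_one _).symm)))
  · intro x hx
    have h1 : ψ x ∈ σ.ker := by
      rw [MonoidHom.mem_ker, ← MonoidHom.comp_apply, hψ]; exact hx
    rw [← hm] at h1
    obtain ⟨m, hm', hmx⟩ := h1
    rw [show x = (x * m⁻¹) * m by group]
    exact mul_mem_sup (by simp [MonoidHom.mem_ker, hmx]) hm'

theorem exists_iso_of_coprime [Finite Q] {Γ₁ : Type v} {Γ₂ : Type w} [Group Γ₁] [Finite Γ₁] [Group Γ₂]
    [Finite Γ₂] (σ₁ : Γ₁ →* Q) (σ₂ : Γ₂ →* Q) (h₁ : IsStemExtension σ₁) (h₂ : IsStemExtension σ₂)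
    (c₁ : Nat.card σ₁.ker = Nat.card (Mult Q)) (c₂ : Nat.card σ₂.ker = Nat.card (Mult Q))
    (hcop : Nat.Coprime (Nat.card (Abelianization Q)) (Nat.card (Mult Q))) :
    ∃ e : Γ₁ ≃* Γ₂, σ₂.comp e.toMonoidHom = σ₁ := by
  obtain ⟨ψ₁, hψ₁⟩ := exists_preLift (stdPres Q) σ₁ h₁.1 h₁.2.1
  obtain ⟨ψ₂, hψ₂⟩ := exists_preLift (stdPres Q) σ₂ h₂.1 h₂.2.1
  obtain ⟨hle, hinf, hsup⟩ := preLift_ker σ₁ h₁ c₁ ψ₁ hψ₁
  set K := Pre (stdPres Q)
  set φ := preHom (stdPres Q)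
  set q := Nat.card (Abelianization Q)
  haveI : IsMulCommutative σ₂.ker :=
    ⟨⟨fun a b => Subtype.ext (Subgroup.mem_center_iff.1 (h₂.2.1 b.2) a.1)⟩⟩
  have hq : ∀ x : K, ∃ c ∈ ψ₁.ker, c⁻¹ * x ^ q ∈ commutator K := by
    intro x
    have h1 : (φ x) ^ q ∈ commutator Q := by
      rw [← Abelianization.ker_of, MonoidHom.mem_ker, map_pow]
      exact pow_card_eq_one'
    have h2 : (commutator K).map φ = commutator Q := by
      rw [_root_.commutator_def, map_commutator,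
        Subgroup.map_top_of_surjective φ (preHom_surjective _ stdPres_surjective), _root_.commutator_def]
    rw [← h2] at h1
    obtain ⟨k, hk, hkx⟩ := h1
    have h3 : x ^ q * k⁻¹ ∈ φ.ker := by simp [MonoidHom.mem_ker, hkx]
    rw [← hsup] at h3
    haveI := normal_of_le_center _ hle
    obtain ⟨c, hc, m, hm, hcm⟩ := mem_sup_of_normal_left.1 h3
    refine ⟨c, hc, ?_⟩
    rw [show c⁻¹ * x ^ q = m * k by
      rw [show x ^ q = c * m * k by rw [hcm]; group]; group]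
    exact mul_mem (mult_le_commutator _ hm) hk
  choose cc hcc hcc' using hq
  have huniq : ∀ {a b : K}, a ∈ ψ₁.ker → b ∈ ψ₁.ker → a⁻¹ * b ∈ commutator K → a = b :=
    fun {a b} ha hb h => inv_mul_eq_one.1 (Subgroup.mem_bot.1 (hinf ▸ Subgroup.mem_inf.2
      ⟨mul_mem (inv_mem ha) hb, h⟩))
  have hab : ∀ {a b : K}, a⁻¹ * b ∈ commutator K → Abelianization.of a = Abelianization.of b :=
    fun {a b} h => inv_mul_eq_one.1 (by
      rw [← map_inv, ← map_mul, ← MonoidHom.mem_ker, Abelianization.ker_of]; exact h)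
  have hccab : ∀ x, Abelianization.of (cc x) = Abelianization.of x ^ q := fun x => by
    rw [hab (hcc' x), map_pow]
  let θ : K →* ψ₁.ker := MonoidHom.mk' (fun x => ⟨cc x, hcc x⟩) fun a b => Subtype.ext (by
    refine huniq (hcc _) (mul_mem (hcc a) (hcc b)) ?_
    rw [← Abelianization.ker_of, MonoidHom.mem_ker, map_mul, map_inv]
    simp [hccab, mul_pow])
  have hθ : ∀ c : ψ₁.ker, θ (c : K) = c ^ q := fun c => Subtype.ext (by
    refine huniq (hcc _) (pow_mem c.2 q) ?_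
    exact hcc' (c : K))
  have hψ₂k : ∀ c : ψ₁.ker, ψ₂ (c : K) ∈ σ₂.ker := fun c => by
    rw [MonoidHom.mem_ker, ← MonoidHom.comp_apply, hψ₂]; exact hle c.2
  let f : ψ₁.ker →* σ₂.ker := (ψ₂.comp ψ₁.ker.subtype).codRestrict _ hψ₂k
  obtain ⟨s, -, hs⟩ := Nat.exists_mul_mod_eq_of_coprime 1 hcop Nat.card_pos.ne'
  let μ : K →* σ₂.ker := ((powMonoidHom s).comp (f.comp θ))⁻¹
  have hμ : ∀ c : ψ₁.ker, μ (c : K) = (f c)⁻¹ := fun c => by
    show ((f (θ (c : K))) ^ s)⁻¹ = _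
    rw [hθ, map_pow, ← pow_mul, pow_eq_pow_mod _ (c₂ ▸ pow_card_eq_one' (x := f c) : (f c) ^ Nat.card (Mult Q) = 1), hs,
      ← pow_eq_pow_mod _ (c₂ ▸ pow_card_eq_one' (x := f c) : (f c) ^ Nat.card (Mult Q) = 1), pow_one]
  let ψ : K →* Γ₂ := MonoidHom.mk' (fun x => ψ₂ x * μ x) fun a b => by
    rw [map_mul, map_mul, Subgroup.coe_mul, mul_assoc, mul_assoc, ← mul_assoc (μ a : Γ₂) (ψ₂ b),
      ← Subgroup.mem_center_iff.1 (h₂.2.1 (μ a).2) (ψ₂ b)]
    simp [mul_assoc]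
  have hψσ : σ₂.comp ψ = φ := MonoidHom.ext fun x => by
    show σ₂ (ψ₂ x * μ x) = _
    rw [map_mul, MonoidHom.mem_ker.1 (μ x).2, mul_one, ← MonoidHom.comp_apply, hψ₂]
  have hψk : ψ₁.ker ≤ ψ.ker := fun c hc => by
    show ψ₂ c * (μ c : Γ₂) = 1
    rw [hμ ⟨c, hc⟩]
    exact mul_inv_cancel _
  have hs₁ := surjective_preLift σ₁ h₁ ψ₁ hψ₁
  let e := ψ₁.liftOfSurjective hs₁ ⟨ψ, hψk⟩
  have he : ∀ x, e (ψ₁ x) = ψ x := fun x => MonoidHom.liftOfRightInverse_comp_apply _ _ _ ⟨ψ, hψk⟩ x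
  have hes : Function.Surjective e := fun y => by
    obtain ⟨x, rfl⟩ := surjective_preLift σ₂ h₂ ψ hψσ y
    exact ⟨ψ₁ x, he x⟩
  have hcard : Nat.card Γ₁ = Nat.card Γ₂ := by
    rw [← Subgroup.index_mul_card σ₁.ker, ← Subgroup.index_mul_card σ₂.ker, Subgroup.index_ker,
      Subgroup.index_ker, MonoidHom.range_eq_top_of_surjective _ h₁.1,
      MonoidHom.range_eq_top_of_surjective _ h₂.1, c₁, c₂]
  refine ⟨MulEquiv.ofBijective e (bijective_of_surjective_of_card_le e hes hcard.le),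
    MonoidHom.ext fun y => ?_⟩
  obtain ⟨x, rfl⟩ := hs₁ y
  show σ₂ (e (ψ₁ x)) = σ₁ (ψ₁ x)
  rw [he, ← MonoidHom.comp_apply, hψσ, ← MonoidHom.comp_apply, hψ₁]

theorem exists_not_iso_of_not_coprime [Finite Q]
    (h : ¬ Nat.Coprime (Nat.card (Abelianization Q)) (Nat.card (Mult Q))) :
    ∃ (Γ₁ Γ₂ : Type u) (_ : Group Γ₁) (_ : Finite Γ₁) (_ : Group Γ₂) (_ : Finite Γ₂)
      (σ₁ : Γ₁ →* Q) (σ₂ : Γ₂ →* Q), IsStemExtension σ₁ ∧ IsStemExtension σ₂ ∧
      Nonempty (σ₁.ker ≃* Mult Q) ∧ Nonempty (σ₂.ker ≃* Mult Q) ∧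
      ¬ ∃ e : Γ₁ ≃* Γ₂, σ₂.comp e.toMonoidHom = σ₁ := by
  classical
  obtain ⟨p, hp, hpQ, hpM⟩ := Nat.Prime.not_coprime_iff_dvd.1 h
  haveI := Fact.mk hp
  set φ := preHom (stdPres Q)
  obtain ⟨C, hC, hinf, hsup⟩ := exists_complement (stdPres Q) φ.ker le_rfl le_sup_left
  haveI := normal_of_le_center _ hC
  obtain ⟨hst₁, hfin₁, hk₁⟩ := isStemExtension_cover _ stdPres_surjective C hC hinf hsup
  -- the element `x`
  obtain ⟨t, ht⟩ := exists_prime_orderOf_dvd_card' (G := Abelianization Q) p hpQ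
  obtain ⟨q₀, rfl⟩ : ∃ q, Abelianization.of q = t := QuotientGroup.mk_surjective t
  obtain ⟨x, hxq⟩ := preHom_surjective (stdPres Q) stdPres_surjective q₀
  have hxC : ∀ c ∈ C, x * c⁻¹ ∉ commutator (Pre (stdPres Q)) := by
    intro c hc hxc
    have h1 : φ (x * c⁻¹) ∈ commutator Q := by
      have := mem_map_of_mem φ hxc
      rw [_root_.commutator_def, map_commutator,
        Subgroup.map_top_of_surjective φ (preHom_surjective _ stdPres_surjective)] at this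
      exact this
    rw [map_mul, map_inv, MonoidHom.mem_ker.1 (hC hc), inv_one, mul_one, hxq] at h1
    rw [← Abelianization.ker_of, MonoidHom.mem_ker] at h1
    have : Abelianization.of q₀ = 1 := h1
    rw [this, orderOf_one] at ht
    exact hp.ne_one ht.symm
  have hxp : ∃ c₀ ∈ C, c₀⁻¹ * x ^ p ∈ commutator (Pre (stdPres Q)) := by
    have h1 : q₀ ^ p ∈ commutator Q := by
      rw [← Abelianization.ker_of, MonoidHom.mem_ker, map_pow, ← ht]
      exact pow_orderOf_eq_one _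
    have h2 : (commutator (Pre (stdPres Q))).map φ = commutator Q := by
      rw [_root_.commutator_def, map_commutator,
        Subgroup.map_top_of_surjective φ (preHom_surjective _ stdPres_surjective), _root_.commutator_def]
    rw [← h2] at h1
    obtain ⟨k, hk, hkx⟩ := h1
    have h3 : x ^ p * k⁻¹ ∈ φ.ker := by simp [MonoidHom.mem_ker, hkx, φ, hxq]
    rw [← hsup] at h3
    obtain ⟨c, hc, m, hm, hcm⟩ := mem_sup_of_normal_left.1 h3
    refine ⟨c, hc, ?_⟩
    rw [show c⁻¹ * x ^ p = m * k by rw [show x ^ p = c * m * k by rw [hcm]; group]; group]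
    exact mul_mem (mult_le_commutator _ hm) hk
  obtain ⟨c₀, hc₀, hc₀x⟩ := hxp
  -- coordinates on C
  obtain ⟨e, -, he⟩ := exists_expSum (stdPres Q)
  haveI : IsMulCommutative C :=
    ⟨⟨fun a b => Subtype.ext (Subgroup.mem_center_iff.1 (preHom_ker_le_center _ (hC b.2)) a.1)⟩⟩
  let r : Additive C →ₗ[ℤ] (Q → ℤ) :=
    (MonoidHom.toAdditiveLeft (e.comp C.subtype)).toIntLinearMap
  have hr : Function.Injective r := by
    rw [injective_iff_map_eq_zero]
    intro a ha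
    have h1 : e ((Additive.toMul a : C) : Pre (stdPres Q)) = 1 := ha
    rw [← MonoidHom.mem_ker, he] at h1
    exact Additive.toMul.injective (Subtype.ext (Subgroup.mem_bot.1
      (hinf ▸ Subgroup.mem_inf.2 ⟨(Additive.toMul a).2, h1⟩)))
  let n : ℕ := Module.finrank ℤ (LinearMap.range r)
  let b := (Module.finBasis ℤ (LinearMap.range r)).map (LinearEquiv.ofInjective r hr).symm
  let v₀ : Additive C := Additive.ofMul ⟨c₀, hc₀⟩
  obtain ⟨i, hi⟩ : ∃ i, ¬ (p : ℤ) ∣ b.repr v₀ i := by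
    by_contra! hall
    choose d hd using hall
    let c₁ : C := Additive.toMul (∑ i, d i • b i)
    have h1 : v₀ = (p : ℤ) • Additive.ofMul c₁ := by
      conv_lhs => rw [← b.sum_repr v₀]
      simp only [hd, c₁, ofMul_toMul, Finset.smul_sum, smul_smul]
    have h2 : c₀ = (c₁ : Pre (stdPres Q)) ^ p := by
      rw [natCast_zsmul, ← ofMul_pow] at h1
      exact congrArg Subtype.val (Additive.ofMul.injective h1)
    have h3 : e (x * (c₁ : Pre (stdPres Q))⁻¹) ^ p = 1 := by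
      rw [map_mul, map_inv, mul_pow, inv_pow, ← map_pow, ← map_pow, ← h2, ← map_inv, ← map_mul,
        ← MonoidHom.mem_ker, he]
      have hcen := Subgroup.mem_center_iff.1 (preHom_ker_le_center _ (hC (inv_mem hc₀))) (x ^ p)
      rw [hcen]
      exact hc₀x
    apply hxC _ c₁.2
    rw [← he, MonoidHom.mem_ker]
    apply Multiplicative.toAdd.injective
    have h4 := congrArg Multiplicative.toAdd h3
    rw [toAdd_pow, toAdd_one] at h4
    funext k
    have h5 := congrFun h4 k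
    simp only [Pi.smul_apply, Pi.zero_apply, nsmul_eq_mul, mul_eq_zero, Nat.cast_eq_zero] at h5
    exact h5.resolve_left hp.ne_zero
  -- a `p`-element of the multiplier that is not a `p`-th power
  haveI : Fintype (Mult Q) := Fintype.ofFinite _
  obtain ⟨z, hzp, hz⟩ : ∃ z : Mult Q, (∃ a, orderOf z = p ^ a) ∧ ∀ w : Mult Q, w ^ p ≠ z := by
    have hns : ¬ Function.Surjective (fun w : Mult Q => w ^ p) := by
      intro hsurj
      obtain ⟨w, hw⟩ := exists_prime_orderOf_dvd_card' p hpM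
      have hinj := (Finite.injective_iff_surjective (f := fun w : Mult Q => w ^ p)).2 hsurj
      have : w = 1 := hinj (show w ^ p = 1 ^ p by rw [one_pow, ← hw]; exact pow_orderOf_eq_one w)
      rw [this, orderOf_one] at hw
      exact hp.ne_one hw.symm
    simp only [Function.Surjective, not_forall, not_exists] at hns
    obtain ⟨w, hw⟩ := hns
    obtain ⟨a, m, hm, hord⟩ := Nat.exists_eq_pow_mul_and_not_dvd (orderOf_pos w).ne' p hp.ne_one
    refine ⟨w ^ m, ⟨a, ?_⟩, fun u hu => ?_⟩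
    · have hm0 : m ≠ 0 := fun h0 => hm (h0 ▸ dvd_zero p)
      rw [orderOf_pow' w hm0, hord, Nat.gcd_mul_left_left, Nat.mul_div_cancel _ (Nat.pos_of_ne_zero hm0)]
    · -- `w = (w ^ m) ^ s * (w ^ p) ^ t`
      have hcop : Int.gcd (m : ℤ) (p : ℤ) = 1 := by
        rw [Int.gcd_natCast_natCast]; exact (hp.coprime_iff_not_dvd.2 hm).symm
      have hb := Int.gcd_eq_gcd_ab (m : ℤ) (p : ℤ)
      rw [hcop] at hb
      refine hw (u ^ (Int.gcdA (m : ℤ) p) * w ^ (Int.gcdB (m : ℤ) p)) ?_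
      calc (u ^ (Int.gcdA (m : ℤ) p) * w ^ (Int.gcdB (m : ℤ) p)) ^ p
          = (u ^ p) ^ (Int.gcdA (m : ℤ) p) * (w ^ (p : ℤ)) ^ (Int.gcdB (m : ℤ) p) := by
            simp only [← zpow_natCast, mul_zpow, ← zpow_mul, mul_comm (p : ℤ)]
        _ = w := by
            rw [hu, ← zpow_natCast w m, ← zpow_mul, ← zpow_mul, ← zpow_add, ← hb, Nat.cast_one, zpow_one]
  obtain ⟨a, ha⟩ := hzp
  obtain ⟨k, hk⟩ : ∃ k : ℤ, b.repr v₀ i * k ≡ 1 [ZMOD (p ^ a : ℕ)] := by
    have : Int.gcd (b.repr v₀ i) ((p ^ a : ℕ) : ℤ) = 1 := by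
      rw [Int.gcd_eq_natAbs, Int.natAbs_natCast]
      exact Nat.Coprime.pow_right _ (hp.coprime_iff_not_dvd.2 (fun hd => hi (Int.natCast_dvd.2 hd))).symm
    refine ⟨Int.gcdA (b.repr v₀ i) ((p ^ a : ℕ) : ℤ), ?_⟩
    have hb := Int.gcd_eq_gcd_ab (b.repr v₀ i) ((p ^ a : ℕ) : ℤ)
    rw [this, Nat.cast_one] at hb
    exact Int.modEq_iff_dvd.2 ⟨Int.gcdB (b.repr v₀ i) ((p ^ a : ℕ) : ℤ), by omega⟩
  let f : C →* Mult Q := MonoidHom.mk' (fun c => z ^ (b.repr (Additive.ofMul c) i * k)) fun c d => by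
    rw [ofMul_mul, map_add, Finsupp.add_apply, add_mul, zpow_add]
  have hf₀ : f ⟨c₀, hc₀⟩ = z := by
    show z ^ (b.repr v₀ i * k) = z
    conv_rhs => rw [← zpow_one z]
    rw [zpow_eq_zpow_iff_modEq, ha]
    exact hk
  -- the second complement
  let j : C →* Pre (stdPres Q) := MonoidHom.mk' (fun c => (c : Pre (stdPres Q)) * (f c : Pre (stdPres Q)))
    fun c d => by
      rw [map_mul, Subgroup.coe_mul, Subgroup.coe_mul, mul_assoc, mul_assoc,
        ← mul_assoc (f c : Pre (stdPres Q)) (d : Pre (stdPres Q)),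
        ← Subgroup.mem_center_iff.1 (mult_le_center _ (f c).2) (d : Pre (stdPres Q))]
      simp [mul_assoc]
  have hC₂ : j.range ≤ φ.ker := by
    rintro _ ⟨c, rfl⟩
    exact mul_mem (hC c.2) (f c).2.1
  have hinf₂ : j.range ⊓ commutator (Pre (stdPres Q)) = ⊥ := by
    rw [eq_bot_iff]
    rintro _ ⟨⟨c, rfl⟩, hc⟩
    have h1 : (c : Pre (stdPres Q)) ∈ commutator (Pre (stdPres Q)) := by
      have := mul_mem (show (c : Pre (stdPres Q)) * (f c : Pre (stdPres Q)) ∈ commutator _ from hc)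
        (inv_mem (f c).2.2)
      simpa using this
    have h2 : c = 1 := Subtype.ext (Subgroup.mem_bot.1 (hinf ▸ Subgroup.mem_inf.2 ⟨c.2, h1⟩))
    simp [h2]
  have hsup₂ : j.range ⊔ mult (stdPres Q) = φ.ker := by
    refine le_antisymm (sup_le hC₂ (mult_le_ker _)) ?_
    intro y hy
    rw [← hsup] at hy
    obtain ⟨c, hc, m, hm, rfl⟩ := mem_sup_of_normal_left.1 hy
    have : c * m = j ⟨c, hc⟩ * (((f ⟨c, hc⟩)⁻¹ : Mult Q) * m : Pre (stdPres Q)) := by
      show c * m = c * (f ⟨c, hc⟩ : Pre (stdPres Q)) * _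
      rw [Subgroup.coe_inv]; group
    rw [this]
    exact mul_mem_sup ⟨_, rfl⟩ (mul_mem ((f ⟨c, hc⟩)⁻¹).2 hm)
  haveI := normal_of_le_center _ hC₂
  obtain ⟨hst₂, hfin₂, hk₂⟩ := isStemExtension_cover _ stdPres_surjective j.range hC₂ hinf₂ hsup₂
  refine ⟨_, _, inferInstance, hfin₁, inferInstance, hfin₂, _, _, hst₁, hst₂, hk₁, hk₂, ?_⟩
  rintro ⟨ee, hee⟩
  -- project the difference to the multiplier
  let mk₂ := QuotientGroup.mk' j.range
  let σ₂ := QuotientGroup.lift j.range φ hC₂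
  have hker₂ : σ₂.ker = (mult (stdPres Q)).map mk₂ := by
    rw [QuotientGroup.ker_lift, ← hsup₂, Subgroup.map_sup, QuotientGroup.map_mk'_self, bot_sup_eq]
  have hbij : Function.Bijective (mk₂.subgroupMap (mult (stdPres Q))) := by
    refine ⟨?_, mk₂.subgroupMap_surjective (mult (stdPres Q))⟩
    rw [injective_iff_map_eq_one]
    intro y hy
    have h1 : (y : Pre (stdPres Q)) ∈ j.range := (QuotientGroup.eq_one_iff _).1 (congrArg Subtype.val hy)
    exact Subtype.ext (Subgroup.mem_bot.1 (hinf₂ ▸ Subgroup.mem_inf.2 ⟨h1, y.2.2⟩))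
  let η : Pre (stdPres Q) →* Pre (stdPres Q) ⧸ j.range := ee.toMonoidHom.comp (QuotientGroup.mk' C)
  have hd : ∀ y, (mk₂ y)⁻¹ * η y ∈ (mult (stdPres Q)).map mk₂ := fun y => by
    rw [← hker₂, MonoidHom.mem_ker, map_mul, map_inv]
    have h1 : σ₂ (η y) = φ y := DFunLike.congr_fun hee (QuotientGroup.mk y)
    rw [h1]
    exact inv_mul_cancel _
  let μ : Pre (stdPres Q) →* (mult (stdPres Q)).map mk₂ :=
    MonoidHom.mk' (fun y => ⟨(mk₂ y)⁻¹ * η y, hd y⟩) fun y y' => Subtype.ext (by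
      have hcen : (mk₂ y)⁻¹ * η y ∈ center (Pre (stdPres Q) ⧸ j.range) :=
        hst₂.2.1 (hker₂ ▸ hd y)
      show (mk₂ (y * y'))⁻¹ * η (y * y') = (mk₂ y)⁻¹ * η y * ((mk₂ y')⁻¹ * η y')
      rw [map_mul, map_mul, mul_inv_rev, ← mul_assoc ((mk₂ y)⁻¹ * η y),
        ← Subgroup.mem_center_iff.1 hcen (mk₂ y')⁻¹]
      group)
  let g : Pre (stdPres Q) →* Mult Q := (MulEquiv.ofBijective _ hbij).symm.toMonoidHom.comp μ
  have hg : ∀ c : C, g (c : Pre (stdPres Q)) = f c := fun c => by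
    apply (MulEquiv.ofBijective _ hbij).injective
    show (MulEquiv.ofBijective _ hbij) ((MulEquiv.ofBijective _ hbij).symm (μ c)) = _
    rw [MulEquiv.apply_symm_apply]
    apply Subtype.ext
    show (mk₂ c)⁻¹ * ee (QuotientGroup.mk (c : Pre (stdPres Q))) = mk₂ (f c : Pre (stdPres Q))
    rw [(QuotientGroup.eq_one_iff _).2 c.2, map_one, mul_one, inv_eq_iff_mul_eq_one, ← map_mul]
    exact (QuotientGroup.eq_one_iff _).2 ⟨c, rfl⟩
  have hgc : ∀ y ∈ commutator (Pre (stdPres Q)), g y = 1 := fun y hy =>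
    MonoidHom.mem_ker.1 (Abelianization.commutator_subset_ker g hy)
  apply hz (g x)
  have h1 := hgc _ hc₀x
  rw [map_mul, map_inv, inv_mul_eq_one, map_pow] at h1
  rw [← h1, hg ⟨c₀, hc₀⟩, hf₀]

end Cfsg.Agent.Schur
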