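/-
The Schur multiplier of a metacyclic group
`⟨a, b | a ^ m = 1, b ^ n = a ^ t, b a b⁻¹ = a ^ r⟩`.
-/
import Cfsg.Agent.Lib.Schur.Bilinear

set_option autoImplicit false
set_option linter.all false

open Cfsg Subgroup
open scoped commutatorElement IsMulCommutative

universe u v w

namespace Cfsg.Agent.Schur

/-- The numerical data: `m = k d`, `r = ρ d + 1`, `1 + r + ⋯ + r ^ (n-1) = k s`, `t = k l`,
`u ρ + v k = 1`. -/
structure MetaData where
  m : ℕ
  n : ℕ
  r : ℕ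
  t : ℕ
  d : ℕ
  k : ℕ
  ρ : ℕ
  s : ℕ
  l : ℕ
  u : ℤ
  v : ℤ
  hm : 0 < m
  hn : 0 < n
  hmk : m = k * d
  hr : r = ρ * d + 1
  hS : (∑ i ∈ Finset.range n, r ^ i) = k * s
  ht : t = k * l
  huv : u * ρ + v * k = 1

namespace MetaData

variable (D : MetaData)

theorem k_pos : 0 < D.k := Nat.pos_of_ne_zero fun h => by
  have := D.hm; rw [D.hmk, h, zero_mul] at this; omega

theorem d_pos : 0 < D.d := Nat.pos_of_ne_zero fun h => by
  have := D.hm; rw [D.hmk, h, mul_zero] at this; omega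

/-- The relations. -/
def Rels {H : Type v} [Group H] (a b : H) : Prop :=
  a ^ D.m = 1 ∧ b ^ D.n = a ^ D.t ∧ b * a * b⁻¹ = a ^ D.r

theorem orderOf_a_pow {H : Type v} [Group H] {a : H} (ha : orderOf a = D.m) (j : ℤ)
    (h : a ^ ((D.ρ * D.d : ℕ) * j) = 1) : (D.k : ℤ) ∣ j := by
  rw [← orderOf_dvd_iff_zpow_eq_one, ha, D.hmk] at h
  push_cast at h
  have h1 : (D.k : ℤ) ∣ (D.ρ : ℤ) * j := by
    refine (mul_dvd_mul_iff_right (Int.natCast_ne_zero.2 D.d_pos.ne')).1 ?_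
    rwa [show (D.ρ : ℤ) * j * (D.d : ℤ) = (D.ρ : ℤ) * (D.d : ℤ) * j by ring]
  have h2 : IsCoprime (D.k : ℤ) (D.ρ : ℤ) := ⟨D.v, D.u, by rw [add_comm]; exact D.huv⟩
  exact h2.dvd_of_dvd_mul_left h1

/-! ### The upper bound -/

theorem card_ker_le {G : Type u} [Group G] (a b : G) (hgen : Subgroup.closure ({a, b} : Set G) = ⊤)
    (hrel : D.Rels a b) (ha : orderOf a = D.m) {Γ : Type v} [Group Γ] [Finite Γ] (σ : Γ →* G)
    (hσ : IsStemExtension σ) : Nat.card σ.ker ≤ Nat.gcd D.l (Nat.gcd D.d D.s) := by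
  obtain ⟨hs, hc, hcomm⟩ := hσ
  obtain ⟨A, hA⟩ := hs a
  obtain ⟨B, hB⟩ := hs b
  obtain ⟨ha1, ha2, ha3⟩ := hrel
  have hcen : ∀ x, σ x = 1 → x ∈ center Γ := fun x hx => hc hx
  set z₃ : Γ := (A ^ D.r)⁻¹ * (B * A * B⁻¹) with hz₃
  have hz₃c : z₃ ∈ center Γ := hcen _ (by simp [hz₃, hA, hB, ha3])
  have hzC : ∀ x : Γ, Commute z₃ x := fun x => (Subgroup.mem_center_iff.1 hz₃c x).symm
  set c : Γ := A ^ (D.ρ * D.d) * z₃ with hcdef
  have hAc : Commute A c := ((Commute.refl A).pow_right _).mul_right (hzC A).symm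
  have hconj : B * A * B⁻¹ = c * A := by
    conv_rhs => rw [hcdef, mul_assoc, (hzC A).eq, ← mul_assoc, ← pow_succ, ← D.hr, hz₃, mul_inv_cancel_left]
  have hBc : B * c * B⁻¹ = c ^ D.r := by
    have h1 : B * c * B⁻¹ = (B * A * B⁻¹) ^ (D.ρ * D.d) * z₃ := by
      rw [conj_pow, hcdef, mul_assoc B, mul_assoc (A ^ _) z₃, (hzC B⁻¹).eq]
      group
    rw [h1, hconj, hAc.symm.mul_pow, mul_assoc, ← hcdef, ← pow_succ, ← D.hr]
  -- `c ^ S = 1`
  have hiter : ∀ j, B ^ j * A * (B ^ j)⁻¹ = c ^ (∑ i ∈ Finset.range j, D.r ^ i) * A := by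
    intro j
    induction j with
    | zero => simp
    | succ j ih =>
      rw [pow_succ', mul_inv_rev, show B * B ^ j * A * ((B ^ j)⁻¹ * B⁻¹) = B * (B ^ j * A * (B ^ j)⁻¹) * B⁻¹ by group,
        ih, show B * (c ^ (∑ i ∈ Finset.range j, D.r ^ i) * A) * B⁻¹ =
          B * c ^ (∑ i ∈ Finset.range j, D.r ^ i) * B⁻¹ * (B * A * B⁻¹) by group,
        ← conj_pow, hBc, hconj, ← mul_assoc, ← pow_mul, ← pow_succ, geom_sum_succ]
  set z₂ : Γ := (A ^ D.t)⁻¹ * B ^ D.n with hz₂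
  have hz₂c : z₂ ∈ center Γ := hcen _ (by simp [hz₂, hA, hB, ha2])
  have hz2C : ∀ x : Γ, Commute z₂ x := fun x => (Subgroup.mem_center_iff.1 hz₂c x).symm
  have hBn : B ^ D.n = A ^ D.t * z₂ := by rw [hz₂, mul_inv_cancel_left]
  have hS1 : c ^ (∑ i ∈ Finset.range D.n, D.r ^ i) = 1 := by
    have h1 := hiter D.n
    have h2 : Commute (B ^ D.n) A := by
      rw [hBn]; exact ((Commute.refl A).pow_left _).mul_left (hz2C A)
    rw [h2.eq, mul_inv_cancel_right] at h1
    exact mul_eq_right.1 h1.symm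
  have hm1 : c ^ D.m = 1 := by
    have h1 : A ^ D.m ∈ center Γ := hcen _ (by simp [hA, ha1])
    have h2 : B * A ^ D.m * B⁻¹ = A ^ D.m := by
      rw [Subgroup.mem_center_iff.1 h1 B, mul_inv_cancel_right]
    rw [← conj_pow, hconj, hAc.symm.mul_pow] at h2
    exact mul_eq_right.1 h2
  have ht1 : c ^ D.t = 1 := by
    have h1 : A ^ D.t = B ^ D.n * z₂⁻¹ := by rw [hBn, mul_inv_cancel_right]
    have hcomm2 : Commute B (A ^ D.t) := by
      rw [h1]; exact ((Commute.refl B).pow_right _).mul_right (hz2C B).symm.inv_right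
    have h2 : B * A ^ D.t * B⁻¹ = A ^ D.t := by rw [hcomm2.eq, mul_inv_cancel_right]
    rw [← conj_pow, hconj, hAc.symm.mul_pow] at h2
    exact mul_eq_right.1 h2
  -- the commutator subgroup lies in `⟨c⟩`
  set K := Subgroup.zpowers c with hK
  have hgenΓ : ∀ P : Subgroup Γ, A ∈ P → B ∈ P → σ.ker ≤ P → P = ⊤ := fun P h1 h2 h3 => by
    have h4 : P.map σ = ⊤ := by
      rw [eq_top_iff, ← hgen, Subgroup.closure_le]
      rintro x (rfl | rfl)
      exacts [⟨A, h1, hA⟩, ⟨B, h2, hB⟩]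
    have h5 := congrArg (Subgroup.comap σ) h4
    rwa [Subgroup.comap_map_eq, Subgroup.comap_top, sup_eq_left.2 h3] at h5
  haveI : K.Normal := by
    rw [← Subgroup.normalizer_eq_top_iff]
    refine hgenΓ _ ?_ ?_ ?_
    · rw [Subgroup.mem_normalizer_iff]
      intro x
      constructor
      · rintro ⟨j, rfl⟩
        exact ⟨j, by show c ^ j = A * c ^ j * A⁻¹; rw [(hAc.zpow_right j).eq, mul_inv_cancel_right]⟩
      · rintro ⟨j, hj⟩
        refine ⟨j, ?_⟩
        show c ^ j = x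
        have hj' : c ^ j = A * x * A⁻¹ := hj
        calc c ^ j = A⁻¹ * (c ^ j) * A := by
              rw [mul_assoc, ← (hAc.zpow_right j).eq, inv_mul_cancel_left]
          _ = x := by rw [hj']; group
    · rw [Subgroup.mem_normalizer_iff]
      have hle : K.map (MulAut.conj B).toMonoidHom ≤ K := by
        rw [hK, MonoidHom.map_zpowers, Subgroup.zpowers_le]
        show B * c * B⁻¹ ∈ _
        rw [hBc]; exact pow_mem (Subgroup.mem_zpowers c) _
      have heq : K.map (MulAut.conj B).toMonoidHom = K :=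
        Subgroup.eq_of_le_of_card_ge hle (le_of_eq (Nat.card_congr
          (K.equivMapOfInjective _ (MulAut.conj B).injective).toEquiv))
      intro x
      have h : x ∈ K ↔ (MulAut.conj B) x ∈ K.map (MulAut.conj B).toMonoidHom :=
        (Subgroup.mem_map_iff_mem (MulAut.conj B).injective).symm
      rw [heq, MulAut.conj_apply] at h
      exact h
    · intro x hx
      rw [Subgroup.mem_normalizer_iff]
      intro y
      rw [show x * y * x⁻¹ = y by
        rw [← Subgroup.mem_center_iff.1 (hc hx) y, mul_inv_cancel_right]]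
  have hK' : commutator Γ ≤ K := by
    let q := QuotientGroup.mk' K
    have hAB : Commute (q A) (q B) := by
      have h1 : q (B * A * B⁻¹) = q A := by
        rw [hconj, map_mul, show q c = 1 from (QuotientGroup.eq_one_iff c).2 (Subgroup.mem_zpowers c), one_mul]
      rw [map_mul, map_mul, map_inv, mul_inv_eq_iff_eq_mul] at h1
      exact h1.symm
    have hall : ∀ x, Commute (q x) (q A) ∧ Commute (q x) (q B) := by
      have h1 : (Subgroup.centralizer {q A}).comap q ⊓ (Subgroup.centralizer {q B}).comap q = ⊤ := by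
        refine hgenΓ _ ?_ ?_ ?_
        · simp only [Subgroup.mem_inf, Subgroup.mem_comap, Subgroup.mem_centralizer_singleton_iff]
          exact ⟨trivial, hAB.eq⟩
        · simp only [Subgroup.mem_inf, Subgroup.mem_comap, Subgroup.mem_centralizer_singleton_iff]
          exact ⟨hAB.symm.eq, trivial⟩
        · intro x hx
          simp only [Subgroup.mem_inf, Subgroup.mem_comap, Subgroup.mem_centralizer_singleton_iff]
          constructor <;> rw [← map_mul, ← map_mul, Subgroup.mem_center_iff.1 (hc hx)]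
      intro x
      have h2 : x ∈ (Subgroup.centralizer {q A}).comap q ⊓ (Subgroup.centralizer {q B}).comap q := by
        rw [h1]; trivial
      simp only [Subgroup.mem_inf, Subgroup.mem_comap, Subgroup.mem_centralizer_singleton_iff] at h2
      exact ⟨h2.1, h2.2⟩
    rw [_root_.commutator_def, commutator_le]
    intro x _ y _
    rw [← QuotientGroup.eq_one_iff (N := K)]
    show q ⁅x, y⁆ = 1
    rw [map_commutatorElement, commutatorElement_eq_one_iff_commute]
    have h1 : (Subgroup.centralizer {q x}).comap q = ⊤ := by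
      refine hgenΓ _ ?_ ?_ ?_
      · simp only [Subgroup.mem_comap, Subgroup.mem_centralizer_singleton_iff]
        exact (hall x).1.symm.eq
      · simp only [Subgroup.mem_comap, Subgroup.mem_centralizer_singleton_iff]
        exact (hall x).2.symm.eq
      · intro z hz
        simp only [Subgroup.mem_comap, Subgroup.mem_centralizer_singleton_iff]
        rw [← map_mul, ← map_mul, Subgroup.mem_center_iff.1 (hc hz)]
    have h2 : y ∈ (Subgroup.centralizer {q x}).comap q := by rw [h1]; trivial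
    simp only [Subgroup.mem_comap, Subgroup.mem_centralizer_singleton_iff] at h2
    exact h2.symm
  -- the kernel lies in `⟨c ^ k⟩`
  have hker : σ.ker ≤ Subgroup.zpowers (c ^ D.k) := by
    intro x hx
    obtain ⟨j, rfl⟩ := hK' (hcomm hx)
    have h1 : σ (c ^ j) = 1 := hx
    have h2 : σ c = a ^ (D.ρ * D.d) := by
      rw [hcdef, map_mul, map_pow, hA, show σ z₃ = 1 by simp [hz₃, hA, hB, ha3], mul_one]
    rw [map_zpow, h2, ← zpow_natCast, ← zpow_mul] at h1
    obtain ⟨i, rfl⟩ := D.orderOf_a_pow ha j h1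
    exact ⟨i, by show (c ^ D.k) ^ i = c ^ ((D.k : ℤ) * i); rw [zpow_mul, zpow_natCast]⟩
  have hw : ∀ j, c ^ (D.k * j) = 1 → orderOf (c ^ D.k) ∣ j := fun j hj =>
    orderOf_dvd_of_pow_eq_one (by rw [← pow_mul]; exact hj)
  have hdvd : orderOf (c ^ D.k) ∣ Nat.gcd D.l (Nat.gcd D.d D.s) :=
    Nat.dvd_gcd (hw _ (by rw [← D.ht]; exact ht1))
      (Nat.dvd_gcd (hw _ (by rw [← D.hmk]; exact hm1)) (hw _ (by rw [← D.hS]; exact hS1)))
  refine (Subgroup.card_le_of_le hker).trans ?_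
  rw [Nat.card_zpowers]
  exact Nat.le_of_dvd (Nat.gcd_pos_of_pos_right _ (Nat.gcd_pos_of_pos_left _ D.d_pos)) hdvd

/-! ### The covering group -/

/-- The lattice of relations of `⟨a, z⟩`. -/
def lattice (e : ℕ) : AddSubgroup (ℤ × ℤ) :=
  AddSubgroup.closure {((D.m : ℤ), -D.u), (0, (e : ℤ))}

theorem mem_lattice (e : ℕ) (p : ℤ × ℤ) :
    p ∈ D.lattice e ↔ ∃ x y : ℤ, p = (x * D.m, -x * D.u + y * e) := by
  rw [lattice, AddSubgroup.mem_closure_pair]
  constructor
  · rintro ⟨x, y, rfl⟩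
    exact ⟨x, y, by ext <;> simp⟩
  · rintro ⟨x, y, rfl⟩
    exact ⟨x, y, by ext <;> simp⟩

theorem exists_model (e : ℕ) (he : 0 < e) (hed : e ∣ D.d) (hel : e ∣ D.l) (hes : e ∣ D.s) :
    ∃ (Γ : Type) (_ : Group Γ) (_ : Finite Γ) (A B Z : Γ),
      Subgroup.closure ({A, B} : Set Γ) = ⊤ ∧ Z ∈ center Γ ∧ Z ∈ commutator Γ ∧ orderOf Z = e ∧
      A ^ D.m ∈ Subgroup.zpowers Z ∧ (A ^ D.t)⁻¹ * B ^ D.n ∈ Subgroup.zpowers Z ∧
      (A ^ D.r)⁻¹ * (B * A * B⁻¹) ∈ Subgroup.zpowers Z ∧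
      (∀ j : ℕ, A ^ j ∈ Subgroup.zpowers Z → D.m ∣ j) ∧
      ∀ (H : Type u) [Group H] (a b : H), D.Rels a b →
        ∃ g : Γ →* H, g A = a ∧ g B = b ∧ g Z = 1 := by
  obtain ⟨ed, hed⟩ := hed
  obtain ⟨el, hel⟩ := hel
  obtain ⟨es, hes⟩ := hes
  let L := D.lattice e
  -- the automorphism
  let φ₀ : ℤ × ℤ →+ (ℤ × ℤ) ⧸ L := (QuotientAddGroup.mk' L).comp
    (AddMonoidHom.mk' (fun p => ((D.r : ℤ) * p.1, D.v * p.1 + p.2)) fun p q => by ext <;> simp <;> ring)
  have hφ₀ : L ≤ φ₀.ker := by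
    intro p hp
    obtain ⟨x, y, rfl⟩ := (D.mem_lattice e p).1 hp
    refine (QuotientAddGroup.eq_zero_iff _).2 ((D.mem_lattice e _).2 ⟨D.r * x, y + ed * x, ?_⟩)
    ext
    · simp; ring
    · show D.v * (x * (D.m : ℤ)) + (-x * D.u + y * e) = _
      have h := D.huv
      have hr : (D.r : ℤ) = D.ρ * D.d + 1 := by exact_mod_cast D.hr
      have hm : (D.m : ℤ) = D.k * D.d := by exact_mod_cast D.hmk
      have hd : (D.d : ℤ) = e * ed := by exact_mod_cast hed
      rw [hr, hm]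
      linear_combination (x * (D.d : ℤ)) * h + x * hd
  let φ : AddMonoid.End ((ℤ × ℤ) ⧸ L) := QuotientAddGroup.lift L φ₀ hφ₀
  have hφ : ∀ p : ℤ × ℤ, φ (QuotientAddGroup.mk p) =
      QuotientAddGroup.mk ((D.r : ℤ) * p.1, D.v * p.1 + p.2) := fun p => rfl
  have hiter : ∀ (j : ℕ) (p : ℤ × ℤ), (⇑φ)^[j] (QuotientAddGroup.mk p) =
      QuotientAddGroup.mk ((D.r : ℤ) ^ j * p.1, D.v * (∑ i ∈ Finset.range j, (D.r : ℤ) ^ i) * p.1 + p.2) := by
    intro j p
    induction j with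
    | zero => simp
    | succ j ih =>
      rw [Function.iterate_succ_apply', ih, hφ]
      congr 1
      ext
      · simp; ring
      · simp only [geom_sum_succ', Finset.sum_range_succ]; ring
  have hS : (∑ i ∈ Finset.range D.n, (D.r : ℤ) ^ i) = D.k * D.s := by exact_mod_cast D.hS
  have hrn : (D.r : ℤ) ^ D.n = (D.k * D.s) * (D.ρ * D.d) + 1 := by
    have h := geom_sum_mul (D.r : ℤ) D.n
    rw [hS] at h
    have hr : (D.r : ℤ) = D.ρ * D.d + 1 := by exact_mod_cast D.hr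
    linear_combination (-1 : ℤ) * h + (D.k * D.s : ℤ) * hr
  have hφn : ∀ x, (⇑φ)^[D.n] x = x := by
    intro x
    obtain ⟨p, rfl⟩ := QuotientAddGroup.mk_surjective x
    rw [hiter, QuotientAddGroup.eq_iff_sub_mem, D.mem_lattice]
    refine ⟨p.1 * D.ρ * D.s, p.1 * es, ?_⟩
    rw [hS, hrn]
    have hm : (D.m : ℤ) = D.k * D.d := by exact_mod_cast D.hmk
    have hs' : (D.s : ℤ) = e * es := by exact_mod_cast hes
    have h := D.huv
    ext
    · simp only [Prod.fst_sub]; rw [hm]; ring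
    · simp only [Prod.snd_sub]
      linear_combination (p.1 * (D.s : ℤ)) * h + p.1 * hs'
  obtain ⟨n', hn'⟩ : ∃ n', D.n = n' + 1 := ⟨D.n - 1, by have := D.hn; omega⟩
  let φe : AddAut ((ℤ × ℤ) ⧸ L) :=
    { toFun := φ
      invFun := (⇑φ)^[n']
      left_inv := fun x => by rw [← Function.iterate_succ_apply, ← Nat.succ_eq_add_one] at *; rw [← hn']; exact hφn x
      right_inv := fun x => by rw [← Function.iterate_succ_apply' φ]; rw [Nat.succ_eq_add_one, ← hn']; exact hφn x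
      map_add' := φ.map_add }
  let N := Multiplicative ((ℤ × ℤ) ⧸ L)
  let ψ : MulAut N := AddEquiv.toMultiplicative φe
  let θ : Multiplicative ℤ →* MulAut N := zpowersHom (MulAut N) ψ
  have hψ : ∀ p : ℤ × ℤ, ψ (Multiplicative.ofAdd (QuotientAddGroup.mk p)) =
      Multiplicative.ofAdd (QuotientAddGroup.mk ((D.r : ℤ) * p.1, D.v * p.1 + p.2)) := fun p => rfl
  have hψn : ψ ^ D.n = 1 := by
    ext x
    have h : ∀ j, (ψ ^ j) x = Multiplicative.ofAdd ((⇑φ)^[j] (Multiplicative.toAdd x)) := by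
      intro j
      induction j generalizing x with
      | zero => rfl
      | succ j ih =>
        rw [pow_succ, MulAut.mul_apply, ih, Function.iterate_succ_apply]
        rfl
    rw [h, hφn]
    rfl
  let mkN : ℤ × ℤ → N := fun p => Multiplicative.ofAdd (QuotientAddGroup.mk p)
  have hfix : ψ (mkN ((D.t : ℤ), 0)) = mkN ((D.t : ℤ), 0) := by
    rw [hψ]
    refine congrArg Multiplicative.ofAdd ((QuotientAddGroup.eq_iff_sub_mem).2 ((D.mem_lattice e _).2
      ⟨D.l * D.ρ, el, ?_⟩))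
    have h := D.huv
    have hm : (D.m : ℤ) = D.k * D.d := by exact_mod_cast D.hmk
    have hr : (D.r : ℤ) = D.ρ * D.d + 1 := by exact_mod_cast D.hr
    have ht : (D.t : ℤ) = D.k * D.l := by exact_mod_cast D.ht
    have hl : (D.l : ℤ) = e * el := by exact_mod_cast hel
    ext
    · simp only [Prod.fst_sub]; rw [hm, hr, ht]; ring
    · simp only [Prod.snd_sub]; rw [ht]
      linear_combination (D.l : ℤ) * h + hl
  -- the extension
  let z₀ : N ⋊[θ] Multiplicative ℤ :=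
    SemidirectProduct.inl (mkN ((D.t : ℤ), 0))⁻¹ * SemidirectProduct.inr (Multiplicative.ofAdd (D.n : ℤ))
  have hθn : θ (Multiplicative.ofAdd (D.n : ℤ)) = 1 := by
    show ψ ^ (D.n : ℤ) = 1
    rw [zpow_natCast, hψn]
  have hfix' : ∀ j : Multiplicative ℤ, θ j (mkN ((D.t : ℤ), 0)) = mkN ((D.t : ℤ), 0) := by
    intro j
    show (ψ ^ Multiplicative.toAdd j) (mkN ((D.t : ℤ), 0)) = mkN ((D.t : ℤ), 0)
    have h1 : ψ ∈ MulAction.stabilizer (MulAut N) (mkN ((D.t : ℤ), 0)) := hfix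
    exact zpow_mem h1 (Multiplicative.toAdd j)
  have hz₀ : z₀ ∈ center (N ⋊[θ] Multiplicative ℤ) := by
    rw [Subgroup.mem_center_iff]
    intro x
    apply SemidirectProduct.ext
    · simp [z₀, hθn, hfix', mul_comm]
    · simp [z₀, mul_comm]
  let Z₀ := Subgroup.zpowers z₀
  haveI : Z₀.Normal := ⟨fun x hx g => by
    rw [Subgroup.mem_center_iff.1 ((Subgroup.zpowers_le.2 hz₀) hx) g, mul_inv_cancel_right]; exact hx⟩
  let π := QuotientGroup.mk' Z₀
  let A := π (SemidirectProduct.inl (mkN (1, 0)))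
  let B := π (SemidirectProduct.inr (Multiplicative.ofAdd 1))
  let Z := π (SemidirectProduct.inl (mkN (0, 1)))
  have hpowN : ∀ (p : ℤ × ℤ) (j : ℤ), mkN p ^ j = mkN (j • p) := fun p j => rfl
  have hpowN' : ∀ (p : ℤ × ℤ) (j : ℕ), mkN p ^ j = mkN ((j : ℤ) • p) := fun p j => by
    rw [← zpow_natCast, hpowN]
  have hdec : ∀ p : ℤ × ℤ, π (SemidirectProduct.inl (mkN p)) = A ^ p.1 * Z ^ p.2 := by
    intro p
    show _ = π _ ^ _ * π _ ^ _
    rw [← map_zpow π, ← map_zpow π, ← map_mul π, ← map_zpow (SemidirectProduct.inl (φ := θ)),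
      ← map_zpow (SemidirectProduct.inl (φ := θ)), ← map_mul (SemidirectProduct.inl (φ := θ)), hpowN, hpowN]
    congr 2
    show mkN p = mkN (p.1 • ((1 : ℤ), (0 : ℤ)) + p.2 • ((0 : ℤ), (1 : ℤ)))
    congr 1
    ext <;> simp
  have hB : ∀ j : ℤ, π (SemidirectProduct.inr (Multiplicative.ofAdd j)) = B ^ j := fun j => by
    show _ = π _ ^ j
    rw [← map_zpow, ← map_zpow, ← ofAdd_zsmul, smul_eq_mul, mul_one]
  have hBn : B ^ D.n = A ^ D.t := by
    rw [← zpow_natCast, ← hB]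
    have h1 : π z₀ = 1 := (QuotientGroup.eq_one_iff z₀).2 (Subgroup.mem_zpowers z₀)
    rw [map_mul, map_inv, map_inv, inv_mul_eq_one, hdec] at h1
    simpa [zpow_natCast] using h1.symm
  have hAm : A ^ D.m = Z ^ D.u := by
    show π _ ^ D.m = π _ ^ D.u
    rw [← map_pow, ← map_zpow, ← map_pow, ← map_zpow, hpowN', hpowN]
    refine congrArg π (congrArg SemidirectProduct.inl (congrArg Multiplicative.ofAdd
      (QuotientAddGroup.eq_iff_sub_mem.2 ((D.mem_lattice e _).2 ⟨1, 0, ?_⟩))))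
    ext <;> simp
  have hBA : B * A * B⁻¹ = A ^ D.r * Z ^ D.v := by
    show π _ * π _ * (π _)⁻¹ = _
    rw [← map_inv, ← map_mul, ← map_mul, ← map_inv (SemidirectProduct.inr (φ := θ)), ← SemidirectProduct.inl_aut]
    show π (SemidirectProduct.inl ((ψ ^ (1 : ℤ)) (mkN (1, 0)))) = _
    rw [zpow_one, hψ, hdec]
    simp [zpow_natCast]
  have hZ : Z ∈ center ((N ⋊[θ] Multiplicative ℤ) ⧸ Z₀) := by
    rw [Subgroup.mem_center_iff]
    intro x
    obtain ⟨y, rfl⟩ := QuotientGroup.mk'_surjective Z₀ x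
    refine (map_mul π _ _).symm.trans ((congrArg π ?_).trans (map_mul π _ _))
    have hfixz : ∀ j : Multiplicative ℤ, θ j (mkN (0, 1)) = mkN (0, 1) := by
      intro j
      have h1 : ψ ∈ MulAction.stabilizer (MulAut N) (mkN ((0 : ℤ), (1 : ℤ))) := by
        show ψ (mkN (0, 1)) = mkN (0, 1)
        rw [hψ]; simp [mkN]
      exact zpow_mem h1 (Multiplicative.toAdd j)
    apply SemidirectProduct.ext
    · simp [hfixz, mul_comm]
    · simp
  have hinj : ∀ p : ℤ × ℤ, π (SemidirectProduct.inl (mkN p)) = 1 → p ∈ D.lattice e := by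
    intro p hp
    obtain ⟨j, hj⟩ := (QuotientGroup.eq_one_iff _).1 hp
    have hj' : z₀ ^ j = SemidirectProduct.inl (mkN p) := hj
    have h1 := congrArg (fun y : N ⋊[θ] Multiplicative ℤ => Multiplicative.toAdd y.right) hj'
    have h2 : ((z₀ ^ j).right) = (Multiplicative.ofAdd (D.n : ℤ)) ^ j := by
      have := map_zpow (SemidirectProduct.rightHom (φ := θ)) z₀ j
      simpa [z₀] using this
    simp only [h2, toAdd_zpow, toAdd_ofAdd, SemidirectProduct.right_inl, toAdd_one, smul_eq_mul,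
      mul_eq_zero] at h1
    have hn0 : (D.n : ℤ) ≠ 0 := Int.natCast_ne_zero.2 D.hn.ne'
    rw [h1.resolve_right hn0, zpow_zero] at hj'
    have h3 : mkN p = 1 := (congrArg SemidirectProduct.left hj').symm
    exact (QuotientAddGroup.eq_zero_iff p).1 h3
  have hZe : orderOf Z = e := by
    apply Nat.dvd_antisymm
    · apply orderOf_dvd_of_pow_eq_one
      show π _ ^ e = 1
      rw [← map_pow, ← map_pow, hpowN']
      have : mkN ((e : ℤ) • ((0 : ℤ), (1 : ℤ))) = 1 :=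
        (QuotientAddGroup.eq_zero_iff _).2 ((D.mem_lattice e _).2 ⟨0, 1, by ext <;> simp⟩)
      rw [this, map_one, map_one]
    · have h1 : π (SemidirectProduct.inl (mkN ((orderOf Z : ℤ) • ((0 : ℤ), (1 : ℤ))))) = 1 := by
        rw [← hpowN', map_pow, map_pow]
        exact pow_orderOf_eq_one Z
      obtain ⟨x, y, hxy⟩ := (D.mem_lattice e _).1 (hinj _ h1)
      simp only [Prod.ext_iff, Prod.smul_mk, smul_eq_mul, mul_zero, mul_one] at hxy
      have hm0 : (D.m : ℤ) ≠ 0 := Int.natCast_ne_zero.2 D.hm.ne'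
      have hx0 : x = 0 := (mul_eq_zero.1 hxy.1.symm).resolve_right hm0
      exact Int.natCast_dvd_natCast.1 ⟨y, by rw [hxy.2, hx0]; ring⟩
  haveI : Finite ((N ⋊[θ] Multiplicative ℤ) ⧸ Z₀) := by
    refine Finite.of_surjective
      (fun p : Fin D.m × Fin e × Fin D.n => A ^ ((p.1 : ℕ) : ℤ) * Z ^ ((p.2.1 : ℕ) : ℤ) * B ^ ((p.2.2 : ℕ) : ℤ)) ?_
    intro x
    obtain ⟨⟨y, j⟩, rfl⟩ := QuotientGroup.mk'_surjective Z₀ x
    obtain ⟨q, hq⟩ := QuotientAddGroup.mk_surjective (Multiplicative.toAdd y)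
    have hy : y = mkN q := Multiplicative.toAdd.injective hq.symm
    have hx : π ⟨y, j⟩ = A ^ q.1 * Z ^ q.2 * B ^ Multiplicative.toAdd j := by
      rw [← hdec, ← hB, ← map_mul, hy]
      congr 1
      apply SemidirectProduct.ext <;> simp
    rw [hx]
    set J := Multiplicative.toAdd j
    have hn0 : (D.n : ℤ) ≠ 0 := Int.natCast_ne_zero.2 D.hn.ne'
    have hm0 : (D.m : ℤ) ≠ 0 := Int.natCast_ne_zero.2 D.hm.ne'
    have he0 : (e : ℤ) ≠ 0 := Int.natCast_ne_zero.2 he.ne'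
    set X : ℤ := q.1 + D.t * (J / D.n)
    set Y : ℤ := q.2 + D.u * (X / D.m)
    refine ⟨(⟨(X % D.m).toNat, ?_⟩, ⟨(Y % e).toNat, ?_⟩, ⟨(J % D.n).toNat, ?_⟩), ?_⟩
    · have := Int.emod_lt_of_pos X (Int.natCast_pos.2 D.hm); have := Int.emod_nonneg X hm0; omega
    · have := Int.emod_lt_of_pos Y (Int.natCast_pos.2 he); have := Int.emod_nonneg Y he0; omega
    · have := Int.emod_lt_of_pos J (Int.natCast_pos.2 D.hn); have := Int.emod_nonneg J hn0; omega
    simp only [Int.toNat_of_nonneg (Int.emod_nonneg X hm0), Int.toNat_of_nonneg (Int.emod_nonneg Y he0),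
      Int.toNat_of_nonneg (Int.emod_nonneg J hn0)]
    have hZC : ∀ (i : ℤ) w, Commute (Z ^ i) w := fun i w =>
      (Subgroup.mem_center_iff.1 (zpow_mem hZ i) w).symm
    have h1 : B ^ J = A ^ ((D.t : ℤ) * (J / D.n)) * B ^ (J % D.n) := by
      conv_lhs => rw [← Int.mul_ediv_add_emod J D.n]
      rw [zpow_add, zpow_mul, zpow_natCast, hBn, ← zpow_natCast A D.t, ← zpow_mul]
    have h2 : A ^ X = A ^ (X % D.m) * Z ^ (D.u * (X / D.m)) := by
      conv_lhs => rw [← Int.emod_add_mul_ediv X D.m]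
      rw [zpow_add, zpow_mul, zpow_natCast, hAm, ← zpow_mul]
    have h3 : Z ^ Y = Z ^ (Y % e) := by
      conv_lhs => rw [← Int.emod_add_mul_ediv Y e]
      rw [zpow_add, zpow_mul, zpow_natCast, ← hZe, pow_orderOf_eq_one, one_zpow, mul_one]
    rw [h1, ← h3, mul_assoc (A ^ q.1), ← mul_assoc (Z ^ q.2), (hZC _ _).eq, ← mul_assoc, ← mul_assoc,
      ← zpow_add, h2, mul_assoc (A ^ (X % D.m)) (Z ^ (D.u * (X / D.m))) (Z ^ q.2), ← zpow_add,
      add_comm (D.u * _) q.2, mul_assoc]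
  have hgen : Subgroup.closure ({A, B} : Set ((N ⋊[θ] Multiplicative ℤ) ⧸ Z₀)) = ⊤ ∧
      Z ∈ commutator ((N ⋊[θ] Multiplicative ℤ) ⧸ Z₀) := by
    have hc : ⁅B, A⁆ ^ (D.k : ℤ) = Z := by
      have h1 : ⁅B, A⁆ = A ^ ((D.ρ : ℤ) * D.d) * Z ^ D.v := by
        rw [commutatorElement_def, hBA, mul_assoc,
          ((Subgroup.mem_center_iff.1 (zpow_mem hZ D.v)) A⁻¹).symm, ← mul_assoc]
        congr 1
        rw [D.hr, pow_succ, mul_inv_cancel_right, ← Nat.cast_mul, zpow_natCast]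
      rw [h1, Commute.mul_zpow (Subgroup.mem_center_iff.1 (zpow_mem hZ D.v) _), ← zpow_mul, ← zpow_mul,
        show (D.ρ : ℤ) * D.d * D.k = (D.m : ℤ) * D.ρ by rw [D.hmk]; push_cast; ring,
        zpow_mul, zpow_natCast A D.m, hAm, ← zpow_mul, ← zpow_add, D.huv, zpow_one]
    have hZm : Z ∈ commutator ((N ⋊[θ] Multiplicative ℤ) ⧸ Z₀) := by
      rw [← hc]
      exact zpow_mem (commutator_mem_commutator (mem_top B) (mem_top A)) _
    refine ⟨eq_top_iff.2 fun x _ => ?_, hZm⟩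
    have hAmem : A ∈ Subgroup.closure ({A, B} : Set ((N ⋊[θ] Multiplicative ℤ) ⧸ Z₀)) :=
      Subgroup.subset_closure (Set.mem_insert _ _)
    have hBmem : B ∈ Subgroup.closure ({A, B} : Set ((N ⋊[θ] Multiplicative ℤ) ⧸ Z₀)) :=
      Subgroup.subset_closure (Set.mem_insert_of_mem _ rfl)
    have hZmem : Z ∈ Subgroup.closure ({A, B} : Set ((N ⋊[θ] Multiplicative ℤ) ⧸ Z₀)) := by
      rw [← hc, commutatorElement_def]
      exact zpow_mem (mul_mem (mul_mem (mul_mem hBmem hAmem) (inv_mem hBmem)) (inv_mem hAmem)) _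
    obtain ⟨⟨y, j⟩, rfl⟩ := QuotientGroup.mk'_surjective Z₀ x
    obtain ⟨q, hq⟩ := QuotientAddGroup.mk_surjective (Multiplicative.toAdd y)
    have hy : y = mkN q := Multiplicative.toAdd.injective hq.symm
    have hx : π ⟨y, j⟩ = A ^ q.1 * Z ^ q.2 * B ^ Multiplicative.toAdd j := by
      rw [← hdec, ← hB, ← map_mul, hy]
      congr 1
      apply SemidirectProduct.ext <;> simp
    rw [hx]
    exact mul_mem (mul_mem (zpow_mem hAmem _) (zpow_mem hZmem _)) (zpow_mem hBmem _)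
  refine ⟨_, inferInstance, inferInstance, A, B, Z, hgen.1, hZ, hgen.2, hZe, ?_, ?_, ?_, ?_, ?_⟩
  · exact ⟨D.u, hAm.symm⟩
  · rw [hBn, inv_mul_cancel]; exact one_mem _
  · rw [hBA, inv_mul_cancel_left]; exact ⟨D.v, rfl⟩
  · rintro j ⟨i, hi⟩
    have hi' : Z ^ i = A ^ j := hi
    have h1 : π (SemidirectProduct.inl (mkN ((j : ℤ), -i))) = 1 := by
      rw [hdec]
      show A ^ (j : ℤ) * Z ^ (-i) = 1
      rw [zpow_natCast, zpow_neg, hi', mul_inv_cancel]
    obtain ⟨x, y, hxy⟩ := (D.mem_lattice e _).1 (hinj _ h1)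
    exact Int.natCast_dvd_natCast.1 ⟨x, by rw [mul_comm]; exact (Prod.ext_iff.1 hxy).1⟩
  intro H _ a b ⟨h1, h2, h3⟩
  let g₀ : ℤ × ℤ →+ Additive H := (zmultiplesHom (Additive H) (Additive.ofMul a)).comp (AddMonoidHom.fst ℤ ℤ)
  have hg₀ : L ≤ g₀.ker := by
    intro p hp
    obtain ⟨x, y, rfl⟩ := (D.mem_lattice e p).1 hp
    show Additive.ofMul (a ^ (x * (D.m : ℤ))) = Additive.ofMul 1
    rw [mul_comm, zpow_mul, zpow_natCast, h1, one_zpow]
  let g₁ : N →* H := AddMonoidHom.toMultiplicativeLeft (QuotientAddGroup.lift L g₀ hg₀)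
  have hg₁ : ∀ p, g₁ (mkN p) = a ^ p.1 := fun p => rfl
  have hcompat : ∀ j : Multiplicative ℤ,
      g₁.comp (θ j).toMonoidHom = (MulAut.conj (zpowersHom H b j)).toMonoidHom.comp g₁ := by
    intro j
    have key : ∀ (i : ℤ) (x : N), g₁ ((ψ ^ i) x) = b ^ i * g₁ x * (b ^ i)⁻¹ := by
      have hψ1 : ∀ x, g₁ (ψ x) = b * g₁ x * b⁻¹ := by
        intro x
        obtain ⟨q, hq⟩ := QuotientAddGroup.mk_surjective (Multiplicative.toAdd x)
        rw [show x = mkN q from Multiplicative.toAdd.injective hq.symm, hψ, hg₁, hg₁, ← conj_zpow, h3,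
          ← zpow_natCast, ← zpow_mul]
      intro i
      induction i using Int.induction_on with
      | zero => simp
      | succ i ih =>
        intro x
        rw [zpow_add_one, zpow_add_one, MulAut.mul_apply, ih, hψ1]; group
      | pred i ih =>
        intro x
        have h := hψ1 (ψ⁻¹ x)
        rw [MulAut.apply_inv_self] at h
        have h' : g₁ (ψ⁻¹ x) = b⁻¹ * g₁ x * b := by rw [h]; group
        rw [zpow_sub_one, zpow_sub_one, MulAut.mul_apply, ih, h']; group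
    apply MonoidHom.ext
    intro x
    exact key (Multiplicative.toAdd j) x
  let g₂ := SemidirectProduct.lift g₁ (zpowersHom H b) hcompat
  have hg₂ : Z₀ ≤ g₂.ker := by
    rw [Subgroup.zpowers_le, MonoidHom.mem_ker]
    simp [z₀, g₂, hg₁, h2]
  refine ⟨QuotientGroup.lift Z₀ g₂ hg₂, ?_, ?_, ?_⟩
  · show g₂ (SemidirectProduct.inl (mkN (1, 0))) = a
    simp [g₂, hg₁]
  · show g₂ (SemidirectProduct.inr (Multiplicative.ofAdd 1)) = b
    simp [g₂]
  · show g₂ (SemidirectProduct.inl (mkN (0, 1))) = 1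
    simp [g₂, hg₁]

/-- The multiplier of a metacyclic group, given by its universal property. -/
theorem hasCyclicSchurMultiplier {G : Type u} [Group G] (a b : G)
    (hgen : Subgroup.closure ({a, b} : Set G) = ⊤) (hrel : D.Rels a b)
    (huniv : ∀ (H : Type) [Group H] (a' b' : H), D.Rels a' b' → ∃ f : G →* H, f a = a' ∧ f b = b') :
    HasCyclicSchurMultiplier G (Nat.gcd D.l (Nat.gcd D.d D.s)) := by
  set e := Nat.gcd D.l (Nat.gcd D.d D.s) with hedef
  have he : 0 < e := Nat.gcd_pos_of_pos_right _ (Nat.gcd_pos_of_pos_left _ D.d_pos)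
  obtain ⟨Γ, _, _, A, B, Z, hG, hZc, hZd, hZo, hA, hBn, hBA, hAord, hu⟩ :=
    D.exists_model.{u} e he ((Nat.gcd_dvd_right _ _).trans (Nat.gcd_dvd_left _ _)) (Nat.gcd_dvd_left _ _)
      ((Nat.gcd_dvd_right _ _).trans (Nat.gcd_dvd_right _ _))
  obtain ⟨g, hgA, hgB, hgZ⟩ := hu G a b hrel
  have hgs : Function.Surjective g := by
    rw [← MonoidHom.range_eq_top, eq_top_iff, ← hgen, Subgroup.closure_le]
    rintro x (rfl | rfl)
    exacts [⟨A, hgA⟩, ⟨B, hgB⟩]
  haveI : Finite G := Finite.of_surjective g hgs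
  haveI : (Subgroup.zpowers Z).Normal := ⟨fun x hx y => by
    rw [Subgroup.mem_center_iff.1 ((Subgroup.zpowers_le.2 hZc) hx) y, mul_inv_cancel_right]; exact hx⟩
  let q := QuotientGroup.mk' (Subgroup.zpowers Z)
  obtain ⟨f, hfa, hfb⟩ := huniv _ (q A) (q B) ⟨by
      rw [← map_pow]; exact (QuotientGroup.eq_one_iff _).2 hA, by
      rw [← map_pow, ← map_pow, eq_comm, ← inv_mul_eq_one, ← map_inv, ← map_mul]
      exact (QuotientGroup.eq_one_iff _).2 hBn, by
      rw [← map_inv, ← map_mul, ← map_mul, ← map_pow, eq_comm, ← inv_mul_eq_one, ← map_inv, ← map_mul]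
      exact (QuotientGroup.eq_one_iff _).2 hBA⟩
  have hfg : f.comp g = q := MonoidHom.eq_of_eqOn_dense hG (by
    rintro x (rfl | rfl) <;> simp [hgA, hgB, hfa, hfb])
  have hker : g.ker = Subgroup.zpowers Z := by
    refine le_antisymm (fun x hx => ?_) (Subgroup.zpowers_le.2 hgZ)
    rw [← QuotientGroup.eq_one_iff]
    show q x = 1
    rw [← hfg, MonoidHom.comp_apply, hx, map_one]
  have hstem : IsStemExtension g :=
    ⟨hgs, hker ▸ Subgroup.zpowers_le.2 hZc, hker ▸ Subgroup.zpowers_le.2 hZd⟩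
  haveI : NeZero e := ⟨he.ne'⟩
  have eZ : g.ker ≃* Multiplicative (ZMod e) :=
    (MulEquiv.subgroupCongr hker).trans ((zmodCyclicMulEquiv (Subgroup.isCyclic_zpowers Z)).symm.trans
      (AddEquiv.toMultiplicative (ZMod.ringEquivCongr (by rw [Nat.card_zpowers, hZo])).toAddEquiv))
  -- `a` has order `m`
  have ha : orderOf a = D.m := by
    refine Nat.dvd_antisymm (orderOf_dvd_of_pow_eq_one hrel.1) ?_
    refine dvd_trans ?_ (orderOf_map_dvd f a)
    rw [hfa]
    refine hAord _ ((QuotientGroup.eq_one_iff _).1 ?_)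
    show q (A ^ orderOf (q A)) = 1
    rw [map_pow, pow_orderOf_eq_one]
  refine hasSchurMultiplier_of_card_le g hstem eZ fun Γ' _ _ σ hσ => ?_
  rw [Nat.card_congr Multiplicative.toAdd, Nat.card_zmod]
  exact D.card_ker_le a b hgen hrel ha σ hσ

end MetaData

end Cfsg.Agent.Schur
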