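/-
Dihedral and dicyclic groups as metacyclic groups, and their multipliers.
-/
import Cfsg.Agent.Lib.Schur.Metacyclic

set_option autoImplicit false
set_option linter.all false

open Cfsg Subgroup

universe u

namespace Cfsg.Agent.Schur

theorem exists_powHom {H : Type u} [Group H] (N : ℕ) (a : H) (ha : a ^ N = 1) :
    ∃ P : ZMod N → H, P 0 = 1 ∧ P 1 = a ∧ (∀ i j, P (i + j) = P i * P j) ∧ ∀ i : ℤ, P i = a ^ i := by
  let f : {f : ℤ →+ Additive H // f N = 0} :=
    ⟨zmultiplesHom (Additive H) (Additive.ofMul a), by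
      show ((N : ℤ) • Additive.ofMul a) = 0
      rw [natCast_zsmul, ← ofMul_pow, ha, ofMul_one]⟩
  refine ⟨fun i => Additive.toMul (ZMod.lift N f i), ?_, ?_, ?_, ?_⟩
  · show Additive.toMul (ZMod.lift N f 0) = 1
    rw [map_zero]; rfl
  · have h := ZMod.lift_coe N f 1
    rw [Int.cast_one] at h
    show Additive.toMul (ZMod.lift N f 1) = a
    rw [h]
    exact zpow_one a
  · intro i j
    show Additive.toMul (ZMod.lift N f (i + j)) = _
    rw [map_add]; rfl
  · intro i
    show Additive.toMul (ZMod.lift N f i) = a ^ i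
    rw [ZMod.lift_coe]
    rfl

theorem conj_eq_neg {H : Type u} [Group H] {N : ℕ} {a b : H} (P : ZMod N → H)
    (hP : ∀ i : ℤ, P i = a ^ i) (h : b * a * b⁻¹ = a⁻¹) (i : ZMod N) : P i * b = b * P (-i) := by
  obtain ⟨k, rfl⟩ := ZMod.intCast_surjective i
  rw [← Int.cast_neg, hP, hP]
  have h1 : b * a ^ (-k) * b⁻¹ = a ^ k := by rw [← conj_zpow, h, inv_zpow', neg_neg]
  rw [← h1, inv_mul_cancel_right]

theorem rel_inv {H : Type u} [Group H] {N : ℕ} (hN : 0 < N) {a : H} (ha : a ^ N = 1) :
    a ^ (2 * N - 1) = a⁻¹ := by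
  refine eq_inv_of_mul_eq_one_left ?_
  rw [← pow_succ, show 2 * N - 1 + 1 = N * 2 by omega, pow_mul, ha, one_pow]

/-- Dihedral data. -/
def dihedralData (n : ℕ) (hn : 0 < n) : MetaData :=
  if h : Even n then
    { m := n, n := 2, r := 2 * n - 1, t := 0, d := 2, k := n / 2, ρ := n - 1, s := 4, l := 0
      u := -1, v := 2
      hm := hn, hn := two_pos
      hmk := (Nat.div_mul_cancel h.two_dvd).symm
      hr := by omega
      hS := by
        obtain ⟨c, rfl⟩ := h
        simp [Finset.sum_range_succ]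
        omega
      ht := by simp
      huv := by
        obtain ⟨c, rfl⟩ := h
        have : ((c + c) / 2 : ℕ) = c := by omega
        rw [this]
        push_cast [Nat.cast_sub (show 1 ≤ c + c by omega)]
        ring }
  else
    { m := n, n := 2, r := 2 * n - 1, t := 0, d := 1, k := n, ρ := 2 * n - 2, s := 2, l := 0
      u := ((n / 2 : ℕ) : ℤ), v := 1 - 2 * ((n / 2 : ℕ) : ℤ)
      hm := hn, hn := two_pos
      hmk := (mul_one n).symm
      hr := by omega
      hS := by simp [Finset.sum_range_succ]; omega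
      ht := by simp
      huv := by
        obtain ⟨c, rfl⟩ := Nat.not_even_iff_odd.1 h
        have : ((2 * c + 1) / 2 : ℕ) = c := by omega
        rw [this]
        push_cast [Nat.cast_sub (show 2 ≤ 2 * (2 * c + 1) by omega)]
        ring }

theorem hasCyclicSchurMultiplier_dihedral (n : ℕ) [NeZero n] :
    HasCyclicSchurMultiplier (DihedralGroup n) (if Even n then 2 else 1) := by
  have hn : 0 < n := Nat.pos_of_ne_zero (NeZero.ne n)
  set D := dihedralData n hn with hD
  have hDm : D.m = n ∧ D.n = 2 ∧ D.r = 2 * n - 1 ∧ D.t = 0 ∧ D.l = 0 ∧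
      Nat.gcd D.d D.s = if Even n then 2 else 1 := by
    rw [hD, dihedralData]
    split <;> simp
  obtain ⟨hm, hn2, hr, ht, hl, hg⟩ := hDm
  have h := D.hasCyclicSchurMultiplier (DihedralGroup.r (1 : ZMod n)) (DihedralGroup.sr 0) ?_ ?_ ?_
  · rw [hl, Nat.gcd_zero_left, hg] at h
    exact h
  · rw [eq_top_iff]
    intro x _
    have hr1 : ∀ i : ZMod n, DihedralGroup.r i ∈
        Subgroup.closure ({DihedralGroup.r 1, DihedralGroup.sr 0} : Set (DihedralGroup n)) := fun i => by
      obtain ⟨k, rfl⟩ := ZMod.intCast_surjective i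
      rw [← DihedralGroup.r_one_zpow]
      exact zpow_mem (Subgroup.subset_closure (Set.mem_insert _ _)) k
    cases x with
    | r i => exact hr1 i
    | sr i =>
      rw [show DihedralGroup.sr i = DihedralGroup.sr 0 * DihedralGroup.r i by simp]
      exact mul_mem (Subgroup.subset_closure (Set.mem_insert_of_mem _ rfl)) (hr1 i)
  · unfold MetaData.Rels
    rw [hm, hn2, hr, ht, pow_zero, rel_inv hn DihedralGroup.r_one_pow_n]
    exact ⟨DihedralGroup.r_one_pow_n, by simp [pow_two], by simp⟩
  · intro H _ a b hab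
    unfold MetaData.Rels at hab
    rw [hm, hn2, hr, ht, pow_zero] at hab
    obtain ⟨h1, h2, h3⟩ := hab
    rw [rel_inv hn h1] at h3
    obtain ⟨P, hP0, hP1, hPa, hPz⟩ := exists_powHom n a h1
    have hc := conj_eq_neg P hPz h3
    have h2' : b * b = 1 := by rw [← pow_two]; exact h2
    refine ⟨MonoidHom.mk' (fun x => match x with
      | DihedralGroup.r i => P i
      | DihedralGroup.sr i => b * P i) ?_, hP1, by show b * P 0 = b; rw [hP0, mul_one]⟩
    rintro (i | i) (j | j)
    · show P (i + j) = P i * P j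
      exact hPa i j
    · show b * P (j - i) = P i * (b * P j)
      rw [← mul_assoc, hc, mul_assoc, ← hPa, neg_add_eq_sub]
    · show b * P (i + j) = b * P i * P j
      rw [hPa, mul_assoc]
    · show P (j - i) = b * P i * (b * P j)
      rw [mul_assoc b (P i), ← mul_assoc (P i), hc, ← mul_assoc, ← mul_assoc, h2', one_mul, ← hPa, neg_add_eq_sub]

/-- Dicyclic data. -/
def dicyclicData (n : ℕ) (hn : 0 < n) : MetaData :=
  { m := 2 * n, n := 2, r := 2 * n - 1, t := n, d := 2, k := n, ρ := n - 1, s := 2, l := 1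
    u := -1, v := 1
    hm := by omega, hn := two_pos
    hmk := by omega
    hr := by omega
    hS := by simp [Finset.sum_range_succ]; omega
    ht := (mul_one n).symm
    huv := by push_cast [Nat.cast_sub hn]; ring }

theorem hasCyclicSchurMultiplier_quaternion (n : ℕ) [NeZero n] :
    HasCyclicSchurMultiplier (QuaternionGroup n) 1 := by
  have hn : 0 < n := Nat.pos_of_ne_zero (NeZero.ne n)
  have hinv : ∀ {H : Type} [Group H] {a : H}, a ^ (2 * n) = 1 → a ^ (2 * n - 1) = a⁻¹ := fun {H} _ {a} ha => by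
    refine eq_inv_of_mul_eq_one_left ?_
    rw [← pow_succ, show 2 * n - 1 + 1 = 2 * n by omega, ha]
  have h := (dicyclicData n hn).hasCyclicSchurMultiplier (QuaternionGroup.a (1 : ZMod (2 * n)))
    (QuaternionGroup.xa 0) ?_ ?_ ?_
  · have e : Nat.gcd (dicyclicData n hn).l (Nat.gcd (dicyclicData n hn).d (dicyclicData n hn).s) = 1 :=
      Nat.gcd_one_left _
    rwa [e] at h
  · rw [eq_top_iff]
    intro x _
    have hr1 : ∀ i : ZMod (2 * n), QuaternionGroup.a i ∈
        Subgroup.closure ({QuaternionGroup.a 1, QuaternionGroup.xa 0} : Set (QuaternionGroup n)) := fun i => by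
      haveI : NeZero (2 * n) := ⟨by omega⟩
      rw [← ZMod.natCast_zmod_val i, ← QuaternionGroup.a_one_pow]
      exact pow_mem (Subgroup.subset_closure (Set.mem_insert _ _)) _
    cases x with
    | a i => exact hr1 i
    | xa i =>
      rw [show QuaternionGroup.xa i = QuaternionGroup.xa 0 * QuaternionGroup.a i by simp]
      exact mul_mem (Subgroup.subset_closure (Set.mem_insert_of_mem _ rfl)) (hr1 i)
  · show _ ^ (2 * n) = 1 ∧ _ ^ 2 = _ ^ n ∧ _ = _ ^ (2 * n - 1)
    rw [hinv QuaternionGroup.a_one_pow_n]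
    refine ⟨QuaternionGroup.a_one_pow_n, by simp [pow_two, QuaternionGroup.a_one_pow], ?_⟩
    rw [mul_inv_eq_iff_eq_mul]
    apply mul_left_cancel (a := QuaternionGroup.a (1 : ZMod (2 * n)))
    rw [mul_inv_cancel_left]
    simp
  · intro H _ a b hab
    obtain ⟨h1, h2, h3⟩ : a ^ (2 * n) = 1 ∧ b ^ 2 = a ^ n ∧ b * a * b⁻¹ = a ^ (2 * n - 1) := hab
    rw [hinv h1] at h3
    obtain ⟨P, hP0, hP1, hPa, hPz⟩ := exists_powHom (2 * n) a h1
    have hc := conj_eq_neg P hPz h3
    have hPn : b * b = P (n : ZMod (2 * n)) := by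
      rw [← pow_two, h2, ← zpow_natCast, ← hPz, Int.cast_natCast]
    refine ⟨MonoidHom.mk' (fun x => match x with
      | QuaternionGroup.a i => P i
      | QuaternionGroup.xa i => b * P i) ?_, hP1, by show b * P 0 = b; rw [hP0, mul_one]⟩
    rintro (i | i) (j | j)
    · show P (i + j) = P i * P j
      exact hPa i j
    · show b * P (j - i) = P i * (b * P j)
      rw [← mul_assoc, hc, mul_assoc, ← hPa, neg_add_eq_sub]
    · show b * P (i + j) = b * P i * P j
      rw [hPa, mul_assoc]
    · show P ((n : ZMod (2 * n)) + j - i) = b * P i * (b * P j)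
      rw [mul_assoc b (P i), ← mul_assoc (P i), hc, ← mul_assoc, ← mul_assoc, hPn, ← hPa, ← hPa]
      congr 1
      ring

end Cfsg.Agent.Schur
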