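/-
The Schur multiplier of a direct product.
-/
import Cfsg.Agent.Lib.Schur.Bilinear

set_option autoImplicit false
set_option linter.all false

open Cfsg Subgroup
open scoped commutatorElement IsMulCommutative TensorProduct

universe u v w

namespace Cfsg.Agent.Schur

variable {Q₁ : Type u} {Q₂ : Type v} [Group Q₁] [Group Q₂]

/-- `Q₁ᵃᵇ ⊗ Q₂ᵃᵇ`, written multiplicatively. -/
abbrev TensorAb (Q₁ : Type u) (Q₂ : Type v) [Group Q₁] [Group Q₂] : Type (max u v) :=
  Multiplicative (TensorProduct ℤ (Additive (Abelianization Q₁)) (Additive (Abelianization Q₂)))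

/-- The bilinear pairing. -/
noncomputable def pairing (Q₁ : Type u) (Q₂ : Type v) [Group Q₁] [Group Q₂] :
    Q₁ →* Q₂ →* TensorAb Q₁ Q₂ :=
  MonoidHom.mk' (fun a => MonoidHom.mk' (fun b => Multiplicative.ofAdd
      (Additive.ofMul (Abelianization.of a) ⊗ₜ[ℤ] Additive.ofMul (Abelianization.of b))) fun b b' => by
    simp [TensorProduct.tmul_add]) fun a a' => by
    ext b; simp [TensorProduct.add_tmul]

theorem closure_pairing :
    Subgroup.closure (Set.range fun p : Q₁ × Q₂ => pairing Q₁ Q₂ p.1 p.2) = ⊤ := by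
  rw [eq_top_iff]
  intro x _
  induction x using Multiplicative.rec with
  | ofAdd t =>
    induction t using TensorProduct.induction_on with
    | zero => exact one_mem _
    | tmul a b =>
      obtain ⟨a', ha⟩ := QuotientGroup.mk_surjective (Additive.toMul a)
      obtain ⟨b', hb⟩ := QuotientGroup.mk_surjective (Additive.toMul b)
      refine Subgroup.subset_closure ⟨(a', b'), ?_⟩
      show Multiplicative.ofAdd
        (Additive.ofMul (Abelianization.of a') ⊗ₜ[ℤ] Additive.ofMul (Abelianization.of b')) = _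
      rw [show Abelianization.of a' = Additive.toMul a from ha,
        show Abelianization.of b' = Additive.toMul b from hb]
      rfl
    | add x y hx hy => exact mul_mem (hx (mem_top _)) (hy (mem_top _))

variable {Γ : Type w} [Group Γ]

theorem map_commutator_le {E : Type u} {X : Type v} [Group E] [Group X] (ι : E →* X) :
    (commutator E).map ι ≤ commutator X := by
  rw [_root_.commutator_def, map_commutator, _root_.commutator_def]
  exact commutator_mono le_top le_top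

theorem commutatorElement_mul_left_central {a a' b : Γ} (h : ⁅a', b⁆ ∈ center Γ) :
    ⁅a * a', b⁆ = ⁅a, b⁆ * ⁅a', b⁆ := by
  have h1 : ⁅a * a', b⁆ = a * ⁅a', b⁆ * a⁻¹ * ⁅a, b⁆ := by
    simp only [commutatorElement_def]; group
  rw [h1, Subgroup.mem_center_iff.1 h a, mul_inv_cancel_right,
    ← Subgroup.mem_center_iff.1 h]

theorem commutatorElement_mul_right_central {a b b' : Γ} (h : ⁅a, b'⁆ ∈ center Γ) :
    ⁅a, b * b'⁆ = ⁅a, b⁆ * ⁅a, b'⁆ := by
  have h1 : ⁅a, b * b'⁆ = ⁅a, b⁆ * (b * ⁅a, b'⁆ * b⁻¹) := by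
    simp only [commutatorElement_def]; group
  rw [h1, Subgroup.mem_center_iff.1 h b, mul_inv_cancel_right]

/-- The kernel of a central extension of `Q₁ × Q₂`, inside the commutator subgroup. -/
theorem exists_surjective_prod [Finite Q₁] [Finite Q₂] (σ : Γ →* Q₁ × Q₂)
    (hσ : Function.Surjective σ) (hc : σ.ker ≤ center Γ) :
    ∃ f : Mult Q₁ × Mult Q₂ × TensorAb Q₁ Q₂ → ↥(σ.ker ⊓ commutator Γ), Function.Surjective f := by
  let Γ₁ : Subgroup Γ := ((MonoidHom.snd Q₁ Q₂).comp σ).ker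
  let Γ₂ : Subgroup Γ := ((MonoidHom.fst Q₁ Q₂).comp σ).ker
  let σ₁ : Γ₁ →* Q₁ := ((MonoidHom.fst Q₁ Q₂).comp σ).comp Γ₁.subtype
  let σ₂ : Γ₂ →* Q₂ := ((MonoidHom.snd Q₁ Q₂).comp σ).comp Γ₂.subtype
  have hs₁ : Function.Surjective σ₁ := fun q => by
    obtain ⟨x, hx⟩ := hσ (q, 1)
    exact ⟨⟨x, congrArg Prod.snd hx⟩, congrArg Prod.fst hx⟩
  have hs₂ : Function.Surjective σ₂ := fun q => by
    obtain ⟨x, hx⟩ := hσ (1, q)
    exact ⟨⟨x, congrArg Prod.fst hx⟩, congrArg Prod.snd hx⟩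
  have hk₁ : ∀ x : Γ₁, x ∈ σ₁.ker → (x : Γ) ∈ σ.ker := fun x hx => Prod.ext hx x.2
  have hk₂ : ∀ x : Γ₂, x ∈ σ₂.ker → (x : Γ) ∈ σ.ker := fun x hx => Prod.ext x.2 hx
  obtain ⟨π₁, hπ₁⟩ := exists_surjective_mult σ₁ hs₁ fun x hx => Subgroup.mem_center_iff.2 fun y =>
    Subtype.ext (Subgroup.mem_center_iff.1 (hc (hk₁ x hx)) y)
  obtain ⟨π₂, hπ₂⟩ := exists_surjective_mult σ₂ hs₂ fun x hx => Subgroup.mem_center_iff.2 fun y =>
    Subtype.ext (Subgroup.mem_center_iff.1 (hc (hk₂ x hx)) y)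
  haveI : IsMulCommutative σ.ker :=
    ⟨⟨fun a b => Subtype.ext (Subgroup.mem_center_iff.1 (hc b.2) a.1)⟩⟩
  have hbr : ∀ {a b : Γ}, a ∈ Γ₁ → b ∈ Γ₂ → ⁅a, b⁆ ∈ σ.ker := fun {a b} ha hb => by
    have ha' : (σ a).2 = 1 := ha
    have hb' : (σ b).1 = 1 := hb
    rw [MonoidHom.mem_ker, map_commutatorElement, commutatorElement_eq_one_iff_mul_comm]
    exact Prod.ext (by simp [hb']) (by simp [ha'])
  let s₁ : Q₁ → Γ₁ := Function.surjInv hs₁
  let s₂ : Q₂ → Γ₂ := Function.surjInv hs₂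
  have hw : ∀ (a : Γ₁) (b : Γ₂), ⁅(a : Γ), (b : Γ)⁆ = ⁅(s₁ (σ₁ a) : Γ), (s₂ (σ₂ b) : Γ)⁆ := by
    intro a b
    have h1 : (s₁ (σ₁ a))⁻¹ * a ∈ σ₁.ker := by simp [MonoidHom.mem_ker, s₁, Function.surjInv_eq hs₁]
    have h2 : (s₂ (σ₂ b))⁻¹ * b ∈ σ₂.ker := by simp [MonoidHom.mem_ker, s₂, Function.surjInv_eq hs₂]
    have h := commutatorElement_mul_central (hc (hk₁ _ h1)) (hc (hk₂ _ h2))
      (s₁ (σ₁ a) : Γ) (s₂ (σ₂ b) : Γ)
    rwa [Subgroup.coe_mul, Subgroup.coe_mul, Subgroup.coe_inv, Subgroup.coe_inv, mul_inv_cancel_left,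
      mul_inv_cancel_left] at h
  let br : Q₁ →* Q₂ →* σ.ker := MonoidHom.mk' (fun q₁ => MonoidHom.mk'
      (fun q₂ => ⟨⁅(s₁ q₁ : Γ), (s₂ q₂ : Γ)⁆, hbr (s₁ q₁).2 (s₂ q₂).2⟩) fun q q' => Subtype.ext (by
        show ⁅(s₁ q₁ : Γ), (s₂ (q * q') : Γ)⁆ = ⁅(s₁ q₁ : Γ), (s₂ q : Γ)⁆ * ⁅(s₁ q₁ : Γ), (s₂ q' : Γ)⁆
        rw [← commutatorElement_mul_right_central (hc (hbr (s₁ q₁).2 (s₂ q').2)), ← Subgroup.coe_mul]
        conv_rhs => rw [hw]
        simp [s₁, s₂, Function.surjInv_eq hs₁, Function.surjInv_eq hs₂])) fun q q' => MonoidHom.ext fun q₂ => Subtype.ext (by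
    show ⁅(s₁ (q * q') : Γ), (s₂ q₂ : Γ)⁆ = ⁅(s₁ q : Γ), (s₂ q₂ : Γ)⁆ * ⁅(s₁ q' : Γ), (s₂ q₂ : Γ)⁆
    rw [← commutatorElement_mul_left_central (hc (hbr (s₁ q').2 (s₂ q₂).2)), ← Subgroup.coe_mul]
    conv_rhs => rw [hw]
    simp [s₁, s₂, Function.surjInv_eq hs₁, Function.surjInv_eq hs₂])
  have hbr' : ∀ (a : Γ₁) (b : Γ₂), ⁅(a : Γ), (b : Γ)⁆ = br (σ₁ a) (σ₂ b) := fun a b => hw a b
  let br' : Q₁ →* (Abelianization Q₂ →* σ.ker) :=
    MonoidHom.mk' (fun q => Abelianization.lift (br q)) fun q q' => by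
      apply Abelianization.hom_ext
      ext z
      simp
  let br'' : Abelianization Q₁ →* (Abelianization Q₂ →* σ.ker) := Abelianization.lift br'
  let bA : Additive (Abelianization Q₁) →+ (Additive (Abelianization Q₂) →+ Additive σ.ker) :=
    AddMonoidHom.mk' (fun x => MonoidHom.toAdditive (br'' (Additive.toMul x))) fun x y => by
      apply AddMonoidHom.ext
      intro z
      show Additive.ofMul (br'' (Additive.toMul x * Additive.toMul y) (Additive.toMul z)) = _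
      rw [map_mul]
      rfl
  let L : TensorProduct ℤ (Additive (Abelianization Q₁)) (Additive (Abelianization Q₂)) →+ Additive σ.ker :=
    TensorProduct.liftAddHom bA fun r m n => by
      rw [map_zsmul, map_zsmul]; rfl
  let T : TensorAb Q₁ Q₂ →* σ.ker := AddMonoidHom.toMultiplicativeLeft L
  have hT : ∀ a b, T (pairing Q₁ Q₂ a b) = br a b := fun a b => rfl
  have hT' : ∀ t, (T t : Γ) ∈ commutator Γ := by
    intro t
    have h : Subgroup.closure (Set.range fun p : Q₁ × Q₂ => pairing Q₁ Q₂ p.1 p.2) ≤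
        (commutator Γ).comap (σ.ker.subtype.comp T) := by
      rw [Subgroup.closure_le]
      rintro _ ⟨⟨a, b⟩, rfl⟩
      show (T (pairing Q₁ Q₂ a b) : Γ) ∈ commutator Γ
      rw [hT]
      exact commutator_mem_commutator (mem_top _) (mem_top _)
    rw [closure_pairing] at h
    exact h (mem_top t)
  -- the commutator subgroup
  let TT : Subgroup Γ := (σ.ker.subtype.comp T).range
  have hTT : TT ≤ center Γ := by rintro _ ⟨t, rfl⟩; exact hc (T t).2
  haveI : TT.Normal := ⟨fun n hn g => by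
    rw [Subgroup.mem_center_iff.1 (hTT hn) g, mul_inv_cancel_right]; exact hn⟩
  have hbT : ∀ {a b : Γ}, a ∈ Γ₁ → b ∈ Γ₂ → ⁅a, b⁆ ∈ TT := fun {a b} ha hb =>
    ⟨pairing Q₁ Q₂ (σ₁ ⟨a, ha⟩) (σ₂ ⟨b, hb⟩), by
      show (T _ : Γ) = _
      rw [hT]; exact (hbr' ⟨a, ha⟩ ⟨b, hb⟩).symm⟩
  let N : Subgroup Γ := (⁅Γ₁, Γ₁⁆ ⊔ ⁅Γ₂, Γ₂⁆) ⊔ TT
  have hTN : TT ≤ N := le_sup_right
  have h11 : ⁅Γ₁, Γ₁⁆ ≤ N := le_sup_left.trans le_sup_left
  have h22 : ⁅Γ₂, Γ₂⁆ ≤ N := le_sup_right.trans le_sup_left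
  haveI : N.Normal := inferInstance
  have hN : commutator Γ ≤ N := by
    have hgen : ∀ x : Γ, ∃ a ∈ Γ₁, ∃ b ∈ Γ₂, x = a * b := by
      intro x
      obtain ⟨a, ha⟩ := hs₁ (σ x).1
      have ha' : (σ (a : Γ)).1 = (σ x).1 := ha
      exact ⟨a, a.2, (a : Γ)⁻¹ * x, by simp [Γ₂, MonoidHom.mem_ker, ha'], by group⟩
    rw [_root_.commutator_def, commutator_le]
    intro x _ y _
    rw [← QuotientGroup.eq_one_iff (N := N)]
    obtain ⟨a, ha, b, hb, rfl⟩ := hgen x
    obtain ⟨a', ha', b', hb', rfl⟩ := hgen y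
    let q := QuotientGroup.mk' N
    have c11 : Commute (q a) (q a') := commutatorElement_eq_one_iff_commute.1 (by
      rw [← map_commutatorElement]; exact (QuotientGroup.eq_one_iff _).2 (h11 (commutator_mem_commutator ha ha')))
    have c22 : Commute (q b) (q b') := commutatorElement_eq_one_iff_commute.1 (by
      rw [← map_commutatorElement]; exact (QuotientGroup.eq_one_iff _).2 (h22 (commutator_mem_commutator hb hb')))
    have c12 : Commute (q a) (q b') := commutatorElement_eq_one_iff_commute.1 (by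
      rw [← map_commutatorElement]; exact (QuotientGroup.eq_one_iff _).2 (hTN (hbT ha hb')))
    have c21 : Commute (q a') (q b) := commutatorElement_eq_one_iff_commute.1 (by
      rw [← map_commutatorElement]; exact (QuotientGroup.eq_one_iff _).2 (hTN (hbT ha' hb)))
    show q ⁅a * b, a' * b'⁆ = 1
    rw [map_commutatorElement, map_mul, map_mul, commutatorElement_eq_one_iff_commute]
    exact ((c11.mul_right c12).mul_left (c21.symm.mul_right c22))
  refine ⟨fun p => ⟨((π₁ p.1 : Γ₁) : Γ) * ((π₂ p.2.1 : Γ₂) : Γ) * (T p.2.2 : Γ),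
    Subgroup.mem_inf.2 ⟨mul_mem (mul_mem (hk₁ _ (π₁ p.1).2.1) (hk₂ _ (π₂ p.2.1).2.1)) (T p.2.2).2, ?_⟩⟩, ?_⟩
  · have h₁ : ∀ {H : Subgroup Γ} (x : H), x ∈ commutator H → (x : Γ) ∈ commutator Γ := fun {H} x hx => by
      have h : (commutator H).map H.subtype ≤ commutator Γ := by
        rw [map_subtype_commutator, _root_.commutator_def]; exact commutator_mono le_top le_top
      exact h (mem_map_of_mem _ hx)
    exact mul_mem (mul_mem (h₁ _ (π₁ p.1).2.2) (h₁ _ (π₂ p.2.1).2.2)) (hT' _)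
  · rintro ⟨x, hx⟩
    obtain ⟨hxk, hxc⟩ := Subgroup.mem_inf.1 hx
    obtain ⟨ab, hab, _, ⟨t, rfl⟩, rfl⟩ := mem_sup_of_normal_right.1 (hN hxc)
    obtain ⟨a, ha, b, hb, rfl⟩ := mem_sup_of_normal_right.1 hab
    rw [← map_subtype_commutator] at ha hb
    obtain ⟨a, ha, rfl⟩ := ha
    obtain ⟨b, hb, rfl⟩ := hb
    have hab1 : σ ((a : Γ) * (b : Γ)) = 1 := by
      have := hxk
      rw [MonoidHom.mem_ker, map_mul] at this
      rwa [show σ ((σ.ker.subtype.comp T) t) = 1 from (T t).2, mul_one] at this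
    have ha1 : a ∈ σ₁.ker := by
      have h := congrArg Prod.fst hab1
      rw [map_mul] at h
      have hb' : (σ (b : Γ)).1 = 1 := b.2
      rw [Prod.fst_mul, hb', mul_one] at h
      exact h
    have hb1 : b ∈ σ₂.ker := by
      have h := congrArg Prod.snd hab1
      rw [map_mul] at h
      have ha' : (σ (a : Γ)).2 = 1 := a.2
      rw [Prod.snd_mul, ha', one_mul] at h
      exact h
    obtain ⟨m₁, hm₁⟩ := hπ₁ ⟨a, ha1, ha⟩
    obtain ⟨m₂, hm₂⟩ := hπ₂ ⟨b, hb1, hb⟩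
    exact ⟨(m₁, m₂, t), Subtype.ext (by simp only [hm₁, hm₂]; rfl)⟩

/-- Künneth formula for the Schur multiplier. -/
theorem hasSchurMultiplier_prod [Finite Q₁] [Finite Q₂] {A B : Type w} [CommGroup A] [CommGroup B]
    (hA : HasSchurMultiplier Q₁ A) (hB : HasSchurMultiplier Q₂ B) :
    HasSchurMultiplier (Q₁ × Q₂) (A × B × TensorAb Q₁ Q₂) := by
  obtain ⟨eA⟩ := nonempty_mulEquiv_mult hA
  obtain ⟨eB⟩ := nonempty_mulEquiv_mult hB
  obtain ⟨E₁, _, _, τ₁, h₁, ⟨e₁⟩⟩ := exists_cover Q₁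
  obtain ⟨E₂, _, _, τ₂, h₂, ⟨e₂⟩⟩ := exists_cover Q₂
  let c : E₁ × E₂ →* (E₁ × E₂ →* TensorAb Q₁ Q₂) :=
    MonoidHom.mk' (fun g => (pairing Q₁ Q₂ (τ₁ g.1)).comp (τ₂.comp (MonoidHom.snd E₁ E₂))) fun g g' => by
      ext h; simp
  have hc : ∀ g h, c g h = pairing Q₁ Q₂ (τ₁ g.1) (τ₂ h.2) := fun g h => rfl
  let σ : BExt c →* Q₁ × Q₂ := (τ₁.prodMap τ₂).comp (BExt.proj c)
  have hσs : Function.Surjective σ := fun q => by
    obtain ⟨a, ha⟩ := h₁.1 q.1
    obtain ⟨b, hb⟩ := h₂.1 q.2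
    exact ⟨⟨1, (a, b)⟩, Prod.ext ha hb⟩
  have hk : ∀ x, x ∈ σ.ker ↔ τ₁ x.base.1 = 1 ∧ τ₂ x.base.2 = 1 := fun x =>
    ⟨fun h => ⟨congrArg Prod.fst h, congrArg Prod.snd h⟩, fun h => Prod.ext h.1 h.2⟩
  have hstem : IsStemExtension σ := by
    refine ⟨hσs, fun x hx => ?_, fun x hx => ?_⟩
    · obtain ⟨hx1, hx2⟩ := (hk x).1 hx
      rw [Subgroup.mem_center_iff]
      intro y
      apply BExt.ext
      · simp [BExt.mul_fib, hc, hx1, hx2, mul_comm]
      · exact Prod.ext (Subgroup.mem_center_iff.1 (h₁.2.1 hx1) _) (Subgroup.mem_center_iff.1 (h₂.2.1 hx2) _)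
    · obtain ⟨hx1, hx2⟩ := (hk x).1 hx
      let ι₁ : E₁ →* BExt c := MonoidHom.mk' (fun g => ⟨1, (g, 1)⟩) fun g g' => by
        apply BExt.ext
        · simp [BExt.mul_fib, hc]
        · simp [BExt.mul_base]
      let ι₂ : E₂ →* BExt c := MonoidHom.mk' (fun g => ⟨1, (1, g)⟩) fun g g' => by
        apply BExt.ext
        · simp [BExt.mul_fib, hc]
        · simp [BExt.mul_base]
      have hfib : ∀ t, BExt.incl c t ∈ commutator (BExt c) := by
        intro t
        have h : Subgroup.closure (Set.range fun p : Q₁ × Q₂ => pairing Q₁ Q₂ p.1 p.2) ≤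
            (commutator (BExt c)).comap (BExt.incl c) := by
          rw [Subgroup.closure_le]
          rintro _ ⟨⟨q₁, q₂⟩, rfl⟩
          obtain ⟨a, rfl⟩ := h₁.1 q₁
          obtain ⟨b, rfl⟩ := h₂.1 q₂
          have h := BExt.commutatorElement_eq c (g := (a, 1)) (h := (1, b))
            (Prod.ext (by simp) (by simp))
          have h' : c (a, 1) (1, b) / c (1, b) (a, 1) = pairing Q₁ Q₂ (τ₁ a) (τ₂ b) := by simp [hc]
          rw [h'] at h
          show BExt.incl c (pairing Q₁ Q₂ (τ₁ a) (τ₂ b)) ∈ commutator (BExt c)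
          rw [← h]
          exact commutator_mem_commutator (mem_top _) (mem_top _)
        rw [closure_pairing] at h
        exact h (mem_top t)
      have hxd : x = BExt.incl c x.fib * (ι₁ x.base.1 * ι₂ x.base.2) := by
        apply BExt.ext
        · simp [BExt.mul_fib, BExt.mul_base, BExt.incl, ι₁, ι₂, hc, hx1]
        · simp [BExt.mul_base, BExt.incl, ι₁, ι₂]
      rw [hxd]
      exact mul_mem (hfib _) (mul_mem (map_commutator_le ι₁ (mem_map_of_mem _ (h₁.2.2 hx1)))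
        (map_commutator_le ι₂ (mem_map_of_mem _ (h₂.2.2 hx2))))
  let e : σ.ker ≃* τ₁.ker × τ₂.ker × TensorAb Q₁ Q₂ :=
    { toFun := fun x => (⟨x.1.base.1, ((hk x).1 x.2).1⟩, ⟨x.1.base.2, ((hk x).1 x.2).2⟩, x.1.fib)
      invFun := fun p => ⟨⟨p.2.2, (p.1, p.2.1)⟩, (hk _).2 ⟨p.1.2, p.2.1.2⟩⟩
      left_inv := fun x => rfl
      right_inv := fun p => rfl
      map_mul' := fun x y => by
        have hx1 : τ₁ x.1.base.1 = 1 := ((hk x).1 x.2).1
        refine Prod.ext (Subtype.ext rfl) (Prod.ext (Subtype.ext rfl) ?_)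
        show x.1.fib * y.1.fib * c x.1.base y.1.base = x.1.fib * y.1.fib
        simp [hc, hx1] }
  haveI : Finite A := finite_multiplier hA
  haveI : Finite B := finite_multiplier hB
  refine hasSchurMultiplier_of_card_le σ hstem
    (e.trans ((e₁.trans eA.symm).prodCongr ((e₂.trans eB.symm).prodCongr (MulEquiv.refl _)))) ?_
  intro Δ _ _ δ hδ
  haveI : Finite (TensorAb Q₁ Q₂) := by
    obtain ⟨π, hπ⟩ := exists_surjective_of_stem σ hstem
    exact Finite.of_surjective (fun m => (e (π m)).2.2) fun t => by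
      obtain ⟨m, hm⟩ := hπ (e.symm (1, 1, t))
      exact ⟨m, by simp [hm]⟩
  obtain ⟨f, hf⟩ := exists_surjective_prod δ hδ.1 hδ.2.1
  rw [← inf_eq_left.2 hδ.2.2]
  refine le_trans (Nat.card_le_card_of_surjective f hf) (le_of_eq (Nat.card_congr ?_))
  exact eA.symm.toEquiv.prodCongr (eB.symm.toEquiv.prodCongr (Equiv.refl _))

theorem subsingleton_tensorAb_of_coprime [Finite Q₁] [Finite Q₂]
    (h : Nat.Coprime (Nat.card (Abelianization Q₁)) (Nat.card (Abelianization Q₂))) :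
    Subsingleton (TensorAb Q₁ Q₂) := by
  refine subsingleton_of_forall_eq 1 fun x => ?_
  induction x using Multiplicative.rec with
  | ofAdd t =>
    show Multiplicative.ofAdd t = Multiplicative.ofAdd 0
    congr 1
    induction t using TensorProduct.induction_on with
    | zero => rfl
    | tmul a b =>
      have h1 : (Nat.card (Abelianization Q₁)) • (a ⊗ₜ[ℤ] b) = 0 := by
        rw [TensorProduct.smul_tmul', show Nat.card (Abelianization Q₁) • a = 0 from
          card_nsmul_eq_zero', TensorProduct.zero_tmul]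
      have h2 : (Nat.card (Abelianization Q₂)) • (a ⊗ₜ[ℤ] b) = 0 := by
        rw [← TensorProduct.tmul_smul, show Nat.card (Abelianization Q₂) • b = 0 from
          card_nsmul_eq_zero', TensorProduct.tmul_zero]
      have h3 := Nat.dvd_gcd (addOrderOf_dvd_of_nsmul_eq_zero h1) (addOrderOf_dvd_of_nsmul_eq_zero h2)
      rw [h.gcd_eq_one, Nat.dvd_one, AddMonoid.addOrderOf_eq_one_iff] at h3
      exact h3
    | add x y hx hy => rw [hx, hy, add_zero]

theorem hasSchurMultiplier_of_equiv {G : Type u} [Group G] {A : Type v} {B : Type w} [CommGroup A]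
    [CommGroup B] (h : HasSchurMultiplier G A) (e : A ≃* B) : HasSchurMultiplier G B := by
  haveI := finite_of_hasSchurMultiplier h
  obtain ⟨a⟩ := nonempty_mulEquiv_mult h
  exact hasSchurMultiplier_of_mulEquiv (e.symm.trans a)

end Cfsg.Agent.Schur
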