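/-
Projective representations and the Schur multiplier.
-/
import Cfsg.Agent.Lib.Schur.Transfer

set_option autoImplicit false
set_option linter.all false

open Cfsg Subgroup
open scoped commutatorElement IsMulCommutative

universe u v w

namespace Cfsg.Agent.Schur

/-- `ℂˣ` is an injective abelian group. -/
theorem exists_extension_units {V : Type v} [CommGroup V] (L : Subgroup V) (f : L →* ℂˣ) :
    ∃ g : V →* ℂˣ, ∀ x : L, g x = f x := by
  have hsurj : ∀ {n : ℤ}, n ≠ 0 → Function.Surjective (fun a : Additive ℂˣ => n • a) := by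
    intro n hn a
    obtain ⟨z, hz⟩ := IsAlgClosed.exists_pow_nat_eq ((Additive.toMul a : ℂˣ) : ℂ)
      (n := n.natAbs) (Int.natAbs_pos.2 hn)
    have hz0 : z ≠ 0 := by
      rintro rfl
      rw [zero_pow (Int.natAbs_ne_zero.2 hn)] at hz
      exact (Additive.toMul a : ℂˣ).ne_zero hz.symm
    rcases Int.natAbs_eq n with h | h
    · refine ⟨Additive.ofMul (Units.mk0 z hz0), ?_⟩
      show n • Additive.ofMul (Units.mk0 z hz0) = a
      rw [h, natCast_zsmul, ← ofMul_pow]
      exact Additive.toMul.injective (Units.ext (by simpa using hz))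
    · refine ⟨Additive.ofMul (Units.mk0 z hz0)⁻¹, ?_⟩
      show n • Additive.ofMul (Units.mk0 z hz0)⁻¹ = a
      rw [h, neg_zsmul, natCast_zsmul, ← ofMul_pow, ← ofMul_inv, inv_pow, inv_inv]
      exact Additive.toMul.injective (Units.ext (by simpa using hz))
  letI : DivisibleBy (Additive ℂˣ) ℤ := divisibleByOfSMulRightSurj _ _ hsurj
  obtain ⟨g, hg⟩ := (Module.Baer.of_divisible (Additive ℂˣ)).extension_property_addMonoidHom
    (MonoidHom.toAdditive L.subtype) (fun a b h => Subtype.ext h) (MonoidHom.toAdditive f)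
  exact ⟨MonoidHom.toAdditive.symm g, fun x => DFunLike.congr_fun hg x⟩

/-- The scalar matrices. -/
theorem scalar_mem_center {n : ℕ} (a : ℂˣ) :
    Matrix.GeneralLinearGroup.scalar (Fin n) a ∈ center (GL (Fin n) ℂ) := by
  rw [Matrix.GeneralLinearGroup.center_eq_range_scalar]; exact ⟨a, rfl⟩

theorem scalar_injective {n : ℕ} (hn : 0 < n) :
    Function.Injective (Matrix.GeneralLinearGroup.scalar (R := ℂ) (Fin n)) := by
  intro a b h
  have h1 := congrArg (fun g : GL (Fin n) ℂ => (g : Matrix (Fin n) (Fin n) ℂ) ⟨0, hn⟩ ⟨0, hn⟩) h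
  refine Units.ext ?_
  simpa [Matrix.GeneralLinearGroup.scalar] using h1

/-- Two homomorphisms which agree modulo central kernel agree on the commutator subgroup. -/
theorem eq_on_commutator {K : Type u} {X : Type v} {Y : Type w} [Group K] [Group X] [Group Y]
    (ξ : X →* Y) (hξ : ξ.ker ≤ center X) (η₁ η₂ : K →* X) (h : ξ.comp η₁ = ξ.comp η₂)
    (x : K) (hx : x ∈ commutator K) : η₁ x = η₂ x := by
  have hle : commutator K ≤ η₁.eqLocus η₂ := by
    rw [_root_.commutator_def, commutator_le]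
    intro a _ b _
    have hc : ∀ g, (η₁ g)⁻¹ * η₂ g ∈ center X := fun g => hξ (by
      rw [MonoidHom.mem_ker, map_mul, map_inv, ← MonoidHom.comp_apply, ← MonoidHom.comp_apply, h,
        inv_mul_cancel])
    show η₁ ⁅a, b⁆ = η₂ ⁅a, b⁆
    rw [map_commutatorElement, map_commutatorElement,
      ← commutatorElement_mul_central (hc a) (hc b) (η₁ a) (η₁ b), mul_inv_cancel_left,
      mul_inv_cancel_left]
  exact hle hx

/-- A representation in which a central subgroup acts by a given character, of small degree. -/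
theorem exists_rep_central_char {Γ : Type u} [Group Γ] [Finite Γ] (Z : Subgroup Γ)
    (hZ : Z ≤ center Γ) (μ : Z →* ℂˣ) :
    ∃ d : ℕ, 0 < d ∧ d * d ≤ Z.index ∧ ∃ ρ : Γ →* GL (Fin d) ℂ,
      ∀ z : Z, ρ z = Matrix.GeneralLinearGroup.scalar (Fin d) (μ z) := by
  classical
  let V : Submodule ℂ (Γ → ℂ) :=
    { carrier := {f | ∀ (x : Γ) (z : Z), f (x * z) = ((μ z)⁻¹ : ℂˣ) * f x}
      add_mem' := fun {f g} hf hg x z => by
        show f (x * z) + g (x * z) = _
        rw [hf, hg]; simp [mul_add]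
      zero_mem' := fun x z => by simp
      smul_mem' := fun c f hf x z => by
        show c * f (x * z) = _
        rw [hf]; simp [mul_left_comm] }
  let f₀ : Γ → ℂ := fun x => if h : x ∈ Z then ((μ ⟨x, h⟩)⁻¹ : ℂˣ) else 0
  have hf₀ : f₀ ∈ V := by
    intro x z
    by_cases h : x ∈ Z
    · have h' : x * z ∈ Z := mul_mem h z.2
      simp only [f₀, dif_pos h, dif_pos h']
      rw [show (⟨x * z, h'⟩ : Z) = ⟨x, h⟩ * z from rfl, map_mul]
      simp [mul_comm]
    · have h' : x * z ∉ Z := fun h' => h (by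
        have := mul_mem h' (inv_mem z.2); simpa using this)
      simp [f₀, h, h']
  let L : Γ →* Module.End ℂ V :=
    { toFun := fun g =>
        { toFun := fun f => ⟨fun x => (f : Γ → ℂ) (g⁻¹ * x), fun x z => by
            show (f : Γ → ℂ) (g⁻¹ * (x * z)) = _
            rw [← mul_assoc]; exact f.2 _ z⟩
          map_add' := fun f f' => rfl
          map_smul' := fun c f => rfl }
      map_one' := by
        ext f x; simp
      map_mul' := fun g h => by
        ext f x; simp [mul_assoc] }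
  have hLz : ∀ z : Z, L z = algebraMap ℂ (Module.End ℂ V) (μ z : ℂ) := by
    intro z
    ext f x
    show (f : Γ → ℂ) ((z : Γ)⁻¹ * x) = (μ z : ℂ) * (f : Γ → ℂ) x
    have h1 : ((z : Γ)⁻¹ * x) = x * ((z⁻¹ : Z) : Γ) :=
      (Subgroup.mem_center_iff.1 (inv_mem (hZ z.2)) x).symm
    rw [h1, f.2 x z⁻¹, map_inv, inv_inv]
  haveI : FiniteDimensional ℂ V := inferInstance
  let bV := Module.finBasis ℂ V
  let J : Module.End ℂ V ≃ₐ[ℂ] Matrix (Fin (Module.finrank ℂ V)) (Fin (Module.finrank ℂ V)) ℂ :=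
    LinearMap.toMatrixAlgEquiv bV
  let M : Γ →* Matrix (Fin (Module.finrank ℂ V)) (Fin (Module.finrank ℂ V)) ℂ :=
    J.toAlgHom.toMonoidHom.comp L
  have hMz : ∀ z : Z, M z = algebraMap ℂ _ (μ z : ℂ) := fun z => by
    show J (L z) = _
    rw [hLz, AlgEquiv.commutes]
  let Φ : MonoidAlgebra ℂ Γ →ₐ[ℂ] Matrix (Fin (Module.finrank ℂ V)) (Fin (Module.finrank ℂ V)) ℂ :=
    MonoidAlgebra.lift ℂ _ Γ M
  let A : Subalgebra ℂ (Matrix (Fin (Module.finrank ℂ V)) (Fin (Module.finrank ℂ V)) ℂ) := Φ.range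
  haveI : NeZero (Nat.card Γ : ℂ) := ⟨by exact_mod_cast Nat.card_pos.ne'⟩
  haveI : IsSemisimpleRing A :=
    RingHom.isSemisimpleRing_of_surjective Φ.rangeRestrict.toRingHom Φ.rangeRestrict_surjective
  haveI : FiniteDimensional ℂ A := FiniteDimensional.finiteDimensional_submodule A.toSubmodule
  obtain ⟨n, d, hd, ⟨e⟩⟩ := IsSemisimpleRing.exists_algEquiv_pi_matrix_of_isAlgClosed ℂ A
  have hn : 0 < n := by
    rcases Nat.eq_zero_or_pos n with rfl | hn
    · exfalso
      have h1 : (1 : A) = 0 := e.injective (Subsingleton.elim _ _)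
      have h2 : (1 : Matrix (Fin (Module.finrank ℂ V)) (Fin (Module.finrank ℂ V)) ℂ) = 0 :=
        congrArg Subtype.val h1
      have h3 : (1 : Module.End ℂ V) = 0 := by
        apply J.injective
        rw [map_one, map_zero]; exact h2
      have h4 := congrArg (fun a : Module.End ℂ V => ((a ⟨f₀, hf₀⟩ : V) : Γ → ℂ) 1) h3
      simp [f₀] at h4
    · exact hn
  let p : A →ₐ[ℂ] Matrix (Fin (d ⟨0, hn⟩)) (Fin (d ⟨0, hn⟩)) ℂ :=
    (Pi.evalAlgHom ℂ (fun i => Matrix (Fin (d i)) (Fin (d i)) ℂ) ⟨0, hn⟩).comp e.toAlgHom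
  have hp : Function.Surjective p := by
    intro M
    exact ⟨e.symm (Pi.single ⟨0, hn⟩ M), by simp [p]⟩
  let L' : Γ →* A :=
    { toFun := fun g => ⟨M g, ⟨MonoidAlgebra.of ℂ Γ g, by simp [Φ]⟩⟩
      map_one' := Subtype.ext M.map_one
      map_mul' := fun a b => Subtype.ext (M.map_mul a b) }
  refine ⟨d ⟨0, hn⟩, Nat.pos_of_ne_zero (hd _).out, ?_, (p.toMonoidHom.comp L').toHomUnits, ?_⟩
  · -- `A` is spanned by `[Γ : Z]` elements
    haveI : Fintype (Γ ⧸ Z) := Fintype.ofFinite _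
    let b : Γ ⧸ Z → A := fun q => L' q.out
    have hspan : Submodule.span ℂ (Set.range b) = ⊤ := by
      rw [eq_top_iff]
      rintro ⟨a, x, rfl⟩ -
      induction x using MonoidAlgebra.induction_on with
      | of g =>
        have hmem : (((g : Γ ⧸ Z).out)⁻¹ * g) ∈ Z := by
          rw [← QuotientGroup.eq, QuotientGroup.out_eq']
        have hkey : (L' g) = (μ ⟨_, hmem⟩ : ℂ) • b (g : Γ ⧸ Z) := by
          apply Subtype.ext
          show M g = (μ ⟨_, hmem⟩ : ℂ) • M ((g : Γ ⧸ Z).out)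
          conv_lhs => rw [show g = (g : Γ ⧸ Z).out * ((⟨_, hmem⟩ : Z) : Γ) by simp]
          rw [map_mul, hMz, Algebra.smul_def, Algebra.commutes]
        have h2 : (⟨Φ.toRingHom (MonoidAlgebra.of ℂ Γ g), _, rfl⟩ : A) = L' g :=
          Subtype.ext (by simp [Φ, L'])
        rw [h2, hkey]
        exact Submodule.smul_mem _ _ (Submodule.subset_span ⟨_, rfl⟩)
      | add x y hx hy =>
        have h2 : (⟨Φ.toRingHom (x + y), _, rfl⟩ : A) =
            ⟨Φ.toRingHom x, _, rfl⟩ + ⟨Φ.toRingHom y, _, rfl⟩ := Subtype.ext (map_add _ _ _)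
        rw [h2]; exact Submodule.add_mem _ hx hy
      | smul c x hx =>
        have h2 : (⟨Φ.toRingHom (c • x), _, rfl⟩ : A) = c • (⟨Φ.toRingHom x, _, rfl⟩ : A) :=
          Subtype.ext (map_smul Φ _ _)
        rw [h2]; exact Submodule.smul_mem _ _ hx
    have h1 : Module.finrank ℂ A ≤ Z.index := by
      rw [Subgroup.index_eq_card, Nat.card_eq_fintype_card, ← finrank_top, ← hspan]
      exact finrank_range_le_card b
    have h2 : Module.finrank ℂ (Matrix (Fin (d ⟨0, hn⟩)) (Fin (d ⟨0, hn⟩)) ℂ) ≤ Module.finrank ℂ A :=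
      LinearMap.finrank_le_finrank_of_surjective (f := p.toLinearMap) hp
    rw [Module.finrank_matrix] at h2
    simp at h2
    exact h2.trans h1
  · intro z
    apply Units.ext
    show p (L' z) = Matrix.scalar (Fin (d ⟨0, hn⟩)) (μ z : ℂ)
    have h : L' z = algebraMap ℂ A (μ z : ℂ) := Subtype.ext (hMz z)
    rw [h, AlgHom.commutes]
    rfl

/-- Lifting of projective representations to a covering group. -/
theorem exists_projective_lift {Q : Type u} [Group Q] [Finite Q] {Γ : Type v} [Group Γ]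
    (σ : Γ →* Q) (hσ : IsStemExtension σ) (hcard : Nat.card σ.ker = Nat.card (Mult Q)) (n : ℕ)
    (γ : Q →* (GL (Fin n) ℂ ⧸ center (GL (Fin n) ℂ))) :
    ∃ ρ : Γ →* GL (Fin n) ℂ, (QuotientGroup.mk' (center (GL (Fin n) ℂ))).comp ρ = γ.comp σ := by
  rcases Nat.eq_zero_or_pos n with rfl | hn
  · haveI : Subsingleton (GL (Fin 0) ℂ ⧸ center (GL (Fin 0) ℂ)) :=
      ⟨fun a b => by
        obtain ⟨x, rfl⟩ := QuotientGroup.mk_surjective a
        obtain ⟨y, rfl⟩ := QuotientGroup.mk_surjective b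
        rw [Subsingleton.elim x y]⟩
    exact ⟨1, MonoidHom.ext fun x => Subsingleton.elim _ _⟩
  let mk := QuotientGroup.mk' (center (GL (Fin n) ℂ))
  -- pull back
  let E : Subgroup (GL (Fin n) ℂ × Q) :=
    (mk.comp (MonoidHom.fst _ _)).eqLocus (γ.comp (MonoidHom.snd _ _))
  let ξ : E →* Q := (MonoidHom.snd _ _).comp E.subtype
  have hξ : Function.Surjective ξ := fun q => by
    obtain ⟨x, hx⟩ := QuotientGroup.mk'_surjective (center (GL (Fin n) ℂ)) (γ q)
    exact ⟨⟨(x, q), hx⟩, rfl⟩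
  have hξc : ξ.ker ≤ center E := by
    rintro ⟨⟨x, q⟩, hx⟩ h
    have hq : q = 1 := h
    subst hq
    have hx' : x ∈ center (GL (Fin n) ℂ) := by
      have : mk x = γ 1 := hx
      rw [map_one] at this
      exact (QuotientGroup.eq_one_iff x).1 this
    rw [Subgroup.mem_center_iff]
    rintro ⟨⟨x', q'⟩, hx''⟩
    refine Subtype.ext (Prod.ext ?_ ?_)
    · exact Subgroup.mem_center_iff.1 hx' x'
    · show q' * 1 = 1 * q'
      simp
  obtain ⟨ψE, hψE⟩ := exists_preLift (stdPres Q) ξ hξ hξc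
  let θ : Pre (stdPres Q) →* GL (Fin n) ℂ := ((MonoidHom.fst _ _).comp E.subtype).comp ψE
  have hθ : ∀ x, mk (θ x) = γ (preHom (stdPres Q) x) := fun x => by
    have h1 : mk (θ x) = γ (ξ (ψE x)) := (ψE x).2
    rwa [← MonoidHom.comp_apply ξ, hψE] at h1
  obtain ⟨ψ, hψ⟩ := exists_preLift (stdPres Q) σ hσ.1 hσ.2.1
  have hm := map_mult (stdPres Q) stdPres_surjective σ hσ.2.1 ψ hψ
  rw [inf_eq_left.2 hσ.2.2] at hm
  have hψs : Function.Surjective ψ := fun g => by
    obtain ⟨x, hx⟩ := preHom_surjective _ (stdPres_surjective (G := Q)) (σ g)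
    have h3 : (ψ x)⁻¹ * g ∈ σ.ker := by
      rw [MonoidHom.mem_ker, map_mul, map_inv, ← MonoidHom.comp_apply, hψ, hx, inv_mul_cancel]
    rw [← hm] at h3
    obtain ⟨m, -, hmg⟩ := h3
    exact ⟨x * m, by rw [map_mul, hmg, mul_inv_cancel_left]⟩
  have hker : ψ.ker ≤ (preHom (stdPres Q)).ker := fun x hx => by
    rw [MonoidHom.mem_ker, ← hψ, MonoidHom.comp_apply, hx, map_one]
  have hinj : Function.Injective (ψ.subgroupMap (mult (stdPres Q))) :=
    (bijective_of_surjective_of_card_le _ (ψ.subgroupMap_surjective (mult (stdPres Q)))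
      (by rw [← hcard, hm])).1
  have hinf : ∀ x ∈ ψ.ker, x ∈ commutator (Pre (stdPres Q)) → x = 1 := fun x hx hx' => by
    have h : ψ.subgroupMap (mult (stdPres Q)) ⟨x, hker hx, hx'⟩ = 1 := Subtype.ext hx
    exact congrArg Subtype.val (hinj (h.trans (map_one _).symm))
  -- adjust θ on ker ψ
  have hθc : ∀ x ∈ ψ.ker, ∃ a : ℂˣ, Matrix.GeneralLinearGroup.scalar (Fin n) a = θ x := fun x hx => by
    have : θ x ∈ center (GL (Fin n) ℂ) := by
      rw [← QuotientGroup.eq_one_iff]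
      show mk (θ x) = 1
      rw [hθ, hker hx, map_one]
    rwa [Matrix.GeneralLinearGroup.center_eq_range_scalar] at this
  let c : ψ.ker →* ℂˣ := MonoidHom.mk' (fun x => ((hθc x x.2).choose)⁻¹) fun a b => by
    apply inv_injective
    rw [mul_inv_rev, inv_inv, inv_inv, inv_inv]
    apply scalar_injective hn
    rw [map_mul, (hθc a a.2).choose_spec, (hθc b b.2).choose_spec, (hθc _ (a * b).2).choose_spec,
      Subgroup.coe_mul, map_mul]
    have hc : θ (a : Pre (stdPres Q)) ∈ center (GL (Fin n) ℂ) := by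
      rw [← (hθc a a.2).choose_spec]; exact scalar_mem_center _
    exact (Subgroup.mem_center_iff.1 hc _).symm
  have hc : ∀ x : ψ.ker, Matrix.GeneralLinearGroup.scalar (Fin n) (c x) = (θ x)⁻¹ := fun x => by
    show Matrix.GeneralLinearGroup.scalar (Fin n) ((hθc x x.2).choose)⁻¹ = _
    rw [map_inv, (hθc x x.2).choose_spec]
  let ab : ψ.ker →* Abelianization (Pre (stdPres Q)) := Abelianization.of.comp ψ.ker.subtype
  have hab : Function.Injective ab := by
    rw [injective_iff_map_eq_one]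
    intro x hx
    exact Subtype.ext (hinf x x.2 (by rw [← Abelianization.ker_of]; exact hx))
  obtain ⟨F, hF⟩ := exists_extension_units ab.range (c.comp (MonoidHom.ofInjective hab).symm.toMonoidHom)
  have hF' : ∀ x : ψ.ker, F (Abelianization.of (x : Pre (stdPres Q))) = c x := fun x => by
    have h := hF (MonoidHom.ofInjective hab x)
    simp only [MonoidHom.comp_apply, MulEquiv.coe_toMonoidHom, MulEquiv.symm_apply_apply] at h
    exact h
  let θ' : Pre (stdPres Q) →* GL (Fin n) ℂ :=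
    MonoidHom.mk' (fun x => θ x * Matrix.GeneralLinearGroup.scalar (Fin n) (F (Abelianization.of x)))
      fun a b => by
        simp only [map_mul]
        rw [mul_assoc, mul_assoc, ← mul_assoc (Matrix.GeneralLinearGroup.scalar (Fin n) _) (θ b),
          ← Subgroup.mem_center_iff.1 (scalar_mem_center _) (θ b)]
        simp [mul_assoc]
  have hθ' : ψ.ker ≤ θ'.ker := fun x hx => by
    show θ x * Matrix.GeneralLinearGroup.scalar (Fin n) (F (Abelianization.of x)) = 1
    rw [hF' ⟨x, hx⟩, hc, mul_inv_cancel]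
  refine ⟨ψ.liftOfSurjective hψs ⟨θ', hθ'⟩, MonoidHom.ext fun g => ?_⟩
  obtain ⟨x, rfl⟩ := hψs g
  have h1 : ψ.liftOfSurjective hψs ⟨θ', hθ'⟩ (ψ x) = θ' x :=
    MonoidHom.liftOfRightInverse_comp_apply _ _ _ ⟨θ', hθ'⟩ x
  show mk (ψ.liftOfSurjective hψs ⟨θ', hθ'⟩ (ψ x)) = γ (σ (ψ x))
  rw [h1, ← MonoidHom.comp_apply σ, hψ, ← hθ]
  show mk (θ x * _) = mk (θ x)
  rw [map_mul, (QuotientGroup.eq_one_iff _).2 (scalar_mem_center _) |> fun h => show mk _ = 1 from h,
    mul_one]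

/-- If all projective representations of `Q` lift along a central extension, the multiplier embeds. -/
theorem injective_of_lifts {Q : Type u} [Group Q] [Finite Q] {Γ : Type v} [Group Γ]
    (σ : Γ →* Q) (hσ : σ.ker ≤ center Γ)
    (hlift : ∀ (n : ℕ) (γ : Q →* (GL (Fin n) ℂ ⧸ center (GL (Fin n) ℂ))),
      ∃ ρ : Γ →* GL (Fin n) ℂ, (QuotientGroup.mk' (center (GL (Fin n) ℂ))).comp ρ = γ.comp σ)
    (ψ : Pre (stdPres Q) →* Γ) (hψ : σ.comp ψ = preHom (stdPres Q))
    (x : Pre (stdPres Q)) (hx : x ∈ mult (stdPres Q)) (h1 : ψ x = 1) : x = 1 := by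
  by_contra hne
  obtain ⟨C, hC, hinf, hsup⟩ :=
    exists_complement (stdPres Q) (preHom (stdPres Q)).ker le_rfl le_sup_left
  haveI := normal_of_le_center _ hC
  obtain ⟨hst, hfin, -⟩ := isStemExtension_cover _ stdPres_surjective C hC hinf hsup
  haveI := hfin
  let σ₀ := QuotientGroup.lift C (preHom (stdPres Q)) hC
  have hz : (QuotientGroup.mk x : Pre (stdPres Q) ⧸ C) ∈ σ₀.ker := hx.1
  have hzne : (⟨_, hz⟩ : σ₀.ker) ≠ 1 := fun h => hne (by
    have h' : x ∈ C := (QuotientGroup.eq_one_iff x).1 (congrArg Subtype.val h)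
    exact Subgroup.mem_bot.1 (hinf ▸ Subgroup.mem_inf.2 ⟨h', hx.2⟩))
  haveI : IsMulCommutative σ₀.ker :=
    ⟨⟨fun a b => Subtype.ext (Subgroup.mem_center_iff.1 (hst.2.1 b.2) a.1)⟩⟩
  haveI : NeZero (Monoid.exponent σ₀.ker) := ⟨Monoid.exponent_ne_zero_of_finite⟩
  obtain ⟨μ, hμ⟩ := CommGroup.exists_apply_ne_one_of_hasEnoughRootsOfUnity σ₀.ker ℂ hzne
  obtain ⟨d, hd, -, ρ₀, hρ₀⟩ := exists_rep_central_char σ₀.ker hst.2.1 μ
  let mk := QuotientGroup.mk' (center (GL (Fin d) ℂ))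
  have hk : σ₀.ker ≤ (mk.comp ρ₀).ker := fun z hz' => by
    rw [MonoidHom.mem_ker, MonoidHom.comp_apply, show ρ₀ z = _ from hρ₀ ⟨z, hz'⟩]
    exact (QuotientGroup.eq_one_iff _).2 (scalar_mem_center _)
  let γ := σ₀.liftOfSurjective hst.1 ⟨mk.comp ρ₀, hk⟩
  have hγ : ∀ y, γ (σ₀ y) = mk (ρ₀ y) := fun y =>
    MonoidHom.liftOfRightInverse_comp_apply _ _ _ ⟨mk.comp ρ₀, hk⟩ y
  obtain ⟨ρ, hρ⟩ := hlift d γ
  have h := eq_on_commutator mk (le_of_eq (QuotientGroup.ker_mk' _)) (ρ.comp ψ)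
    (ρ₀.comp (QuotientGroup.mk' C)) (MonoidHom.ext fun y => by
      show mk (ρ (ψ y)) = mk (ρ₀ (QuotientGroup.mk y))
      rw [← hγ, ← MonoidHom.comp_apply mk, hρ]
      exact congrArg γ (DFunLike.congr_fun hψ y)) x hx.2
  rw [MonoidHom.comp_apply, h1, map_one, MonoidHom.comp_apply] at h
  apply hμ
  apply scalar_injective hd
  rw [map_one, ← hρ₀ ⟨_, hz⟩]
  exact h.symm

end Cfsg.Agent.Schur
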